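import Groth.Agent.QCohLib.SerreCrit

/-!
# Generation of modules by global sections
-/

universe u
open CategoryTheory CategoryTheory.Limits TopologicalSpace Opposite AlgebraicGeometry

namespace QCohLib
variable {X : Scheme.{u}}

/-- Every section is locally a combination of the `s i`. -/
def GenTop {M : X.Modules} {I : Type u} [Fintype I] (s : I → Γ(M, ⊤)) : Prop :=
  ∀ (V : X.Opens) (t : Γ(M, V)) (p : X), p ∈ V → ∃ (W : X.Opens) (hW : W ≤ V), p ∈ W ∧
    ∃ c : I → Γ(X, W), M.presheaf.map (homOfLE hW).op t =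
      ∑ i, c i • M.presheaf.map (homOfLE (le_top : W ≤ ⊤)).op (s i)

/-- A global section, as a section of the presheaf of modules. -/
noncomputable def toSections (M : X.Modules) (x : Γ(M, ⊤)) : M.val.sections :=
  PresheafOfModules.sectionsMk (fun V => M.presheaf.map (homOfLE le_top).op x)
    fun V V' g => by exact map_map' M g.unop (homOfLE le_top) x

theorem toSections_top (M : X.Modules) (x : Γ(M, ⊤)) : (toSections M x).val (op ⊤) = x := by
  change (M.presheaf.map (𝟙 (op ⊤))) x = x
  simp

theorem sections_val (M : X.Modules) (σ : M.val.sections) (V : X.Opens) :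
    σ.val (op V) = M.presheaf.map (homOfLE (le_top : V ≤ ⊤)).op (σ.val (op ⊤)) :=
  (σ.property (homOfLE le_top).op).symm

/-- The morphism `O_X ⟶ M` given by a section. -/
noncomputable def unitHom (M : X.Modules) (x : Γ(M, ⊤)) : Coh.structureModule X ⟶ M :=
  M.unitHomEquiv.symm (toSections M x)

theorem unitHom_app (M : X.Modules) (x : Γ(M, ⊤)) (V : X.Opens) (r : Γ(X, V)) :
    (unitHom M x).app V r = r • M.presheaf.map (homOfLE (le_top : V ≤ ⊤)).op x := rfl

theorem app_smul {M N : X.Modules} (φ : M ⟶ N) (V : X.Opens) (r : Γ(X, V)) (x : Γ(M, V)) :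
    φ.app V (r • x) = r • φ.app V x := (φ.val.app (op V)).hom.map_smul r x

theorem map_smul' (M : X.Modules) {V W : X.Opens} (i : W ⟶ V) (r : Γ(X, V)) (x : Γ(M, V)) :
    M.presheaf.map i.op (r • x) = X.presheaf.map i.op r • M.presheaf.map i.op x :=
  M.val.map_smul i.op r x

theorem app_unitHom_app {M N : X.Modules} (φ : M ⟶ N) (x : Γ(M, ⊤)) :
    unitHom M x ≫ φ = unitHom N (φ.app ⊤ x) := by
  apply Scheme.Modules.hom_ext
  intro V
  refine ConcreteCategory.hom_ext _ _ fun r => ?_
  change φ.app V ((unitHom M x).app V r) = _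
  rw [unitHom_app, app_smul, app_map]
  exact (unitHom_app N (φ.app ⊤ x) V r).symm

/-- The sections generating along a morphism from a free module. -/
theorem ιFree_comp {M : X.Modules} {I : Type u} (s : I → Γ(M, ⊤)) (i : I) :
    SheafOfModules.ιFree i ≫ M.freeHomEquiv.symm (fun j => toSections M (s j)) =
      unitHom M (s i) := by
  rw [← SheafOfModules.unitHomEquiv_symm_freeHomEquiv_apply, Equiv.apply_symm_apply]
  rfl

/-- A morphism killing generators is zero. -/
theorem GenTop.eq_zero {M N : X.Modules} {I : Type u} [Fintype I] {s : I → Γ(M, ⊤)} (h : GenTop s)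
    (q : M ⟶ N) (hq : ∀ i, q.app ⊤ (s i) = 0) : q = 0 := by
  apply Scheme.Modules.hom_ext
  intro V
  refine ConcreteCategory.hom_ext _ _ fun t => ?_
  choose W hW hpW c hc using fun p : V => h V t p.1 p.2
  refine TopCat.Sheaf.eq_of_locally_eq' ((toAbF X).obj N : TopCat.Sheaf AddCommGrpCat _)
    W V (fun p => homOfLE (hW p)) (fun p hp => Opens.mem_iSup.mpr ⟨⟨p, hp⟩, hpW ⟨p, hp⟩⟩)
    (q.app V t) ((0 : M ⟶ N).app V t) fun p => ?_
  refine (app_map q (homOfLE (hW p)) t).symm.trans ?_
  rw [hc p, map_sum]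
  refine Eq.trans (Finset.sum_eq_zero fun i _ => ?_) ?_
  · rw [app_smul, app_map, hq, map_zero, smul_zero]
  · exact (map_zero _).symm

theorem GenTop.epi {M : X.Modules} {I : Type u} [Fintype I] {s : I → Γ(M, ⊤)} (h : GenTop s) :
    Epi (M.freeHomEquiv.symm (fun j => toSections M (s j))) := by
  refine Preadditive.epi_of_cancel_zero _ fun {N : X.Modules} (q : M ⟶ N) hq => h.eq_zero q fun i => ?_
  have h1 : unitHom M (s i) ≫ q = 0 := by
    rw [← ιFree_comp]
    exact (Category.assoc _ _ _).trans ((congr_arg _ hq).trans comp_zero)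
  have h2 := congr_arg (fun φ : Coh.structureModule X ⟶ N => φ.app ⊤ (1 : Γ(X, ⊤))) h1
  change q.app ⊤ ((unitHom M (s i)).app ⊤ (1 : Γ(X, ⊤))) = 0 at h2
  rwa [unitHom_app, one_smul, show M.presheaf.map (homOfLE (le_top : ⊤ ≤ (⊤ : X.Opens))).op (s i)
    = s i from toSections_top M (s i)] at h2

/-- Generating sections from `GenTop`. -/
noncomputable def GenTop.generatingSections {M : X.Modules} {I : Type u} [Fintype I]
    {s : I → Γ(M, ⊤)} (h : GenTop s) : SheafOfModules.GeneratingSections.{u} M where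
  I := I
  s i := toSections M (s i)
  epi := h.epi

/-- A finite sum of copies of `O_X` over `M`, with image the combinations of sections. -/
theorem exists_cover {M : X.Modules} {I : Type u} [Fintype I] (s : I → Γ(M, ⊤)) (t : Finset I) :
    ∃ (E : X.Modules) (φ : E ⟶ M), Coh.IsQCoh E ∧
      (∀ (V : X.Opens) (e : Γ(E, V)), ∃ c : I → Γ(X, V),
        φ.app V e = ∑ i, c i • M.presheaf.map (homOfLE (le_top : V ≤ ⊤)).op (s i)) ∧
      ∀ i ∈ t, ∃ j : Coh.structureModule X ⟶ E, j ≫ φ = unitHom M (s i) := by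
  classical
  induction t using Finset.induction_on with
  | empty =>
    refine ⟨Coh.structureModule X, 0, isQCoh_unit, fun V e => ⟨0, ?_⟩,
      fun i hi => absurd hi (Finset.notMem_empty i)⟩
    simp only [Pi.zero_apply, zero_smul, Finset.sum_const_zero]
    rfl
  | insert a t hat ih =>
    obtain ⟨E, φ, hE, hφ, hj⟩ := ih
    have := isQCoh_unit (X := X)
    refine ⟨E ⊞ Coh.structureModule X, biprod.desc φ (unitHom M (s a)), isQCoh_biprod _ _,
      fun V e => ?_, fun i hi => ?_⟩
    · have he : biprod.desc φ (unitHom M (s a)) =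
          biprod.fst ≫ φ + biprod.snd ≫ unitHom M (s a) := by
        apply biprod.hom_ext' <;> simp
      obtain ⟨c, hc⟩ := hφ V ((biprod.fst : E ⊞ Coh.structureModule X ⟶ E).app V e)
      let r : Γ(X, V) := (biprod.snd : E ⊞ Coh.structureModule X ⟶ Coh.structureModule X).app V e
      refine ⟨c + Pi.single a r, ?_⟩
      rw [he]
      refine (congr_arg₂ (· + ·) hc (unitHom_app M (s a) V r)).trans ?_
      simp only [Pi.add_apply, add_smul, Finset.sum_add_distrib, add_right_inj]
      rw [Finset.sum_eq_single a (fun i _ hi => by rw [Pi.single_eq_of_ne hi, zero_smul])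
        (fun h => absurd (Finset.mem_univ a) h), Pi.single_eq_same]
    · rcases Finset.mem_insert.mp hi with rfl | hi
      · exact ⟨biprod.inr, biprod.inr_desc _ _⟩
      · obtain ⟨j, hj⟩ := hj i hi
        exact ⟨j ≫ biprod.inl, by simp [hj]⟩

theorem exists_of_app_epi {M N : X.Modules} (φ : M ⟶ N) [Epi φ] (V : X.Opens) (s : Γ(N, V))
    (p : X) (hp : p ∈ V) : ∃ (W : X.Opens) (hW : W ≤ V), p ∈ W ∧
      ∃ t, φ.app W t = N.presheaf.map (homOfLE hW).op s := by
  have hls := (Sheaf.isLocallySurjective_iff_epi' (φ := (toAbF X).map φ)).mpr inferInstance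
  obtain ⟨W, hW, ⟨t, ht⟩, hpW⟩ :=
    (TopCat.Presheaf.isLocallySurjective_iff ((toAbF X).map φ).hom).mp hls V s p hp
  exact ⟨W, hW, hpW, t, ht⟩

/-- Generating sections give `GenTop`. -/
theorem genTop_of_epi {M : X.Modules} {I : Type u} [Fintype I] (σ : I → M.val.sections)
    [Epi (M.freeHomEquiv.symm σ)] : GenTop (fun i => (σ i).val (op ⊤)) := by
  have hσ : (fun i => toSections M ((σ i).val (op ⊤))) = σ := funext fun i =>
    PresheafOfModules.sections_ext _ _ fun V => (sections_val M (σ i) V.unop).symm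
  obtain ⟨E, φ, -, hφ, hj⟩ := exists_cover (fun i => (σ i).val (op ⊤)) Finset.univ
  choose j hj using fun i => hj i (Finset.mem_univ i)
  have hfac : M.freeHomEquiv.symm σ =
      Cofan.IsColimit.desc (SheafOfModules.isColimitFreeCofan I) j ≫ φ := by
    refine Cofan.IsColimit.hom_ext (SheafOfModules.isColimitFreeCofan I) _ _ fun i => ?_
    rw [← Category.assoc, Cofan.IsColimit.fac]
    refine Eq.trans ?_ (hj i).symm
    refine Eq.trans ?_ (ιFree_comp (fun i => (σ i).val (op ⊤)) i)
    rw [hσ]
    rfl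
  have : Epi φ := by
    have h : Epi (M.freeHomEquiv.symm σ) := inferInstance
    rw [hfac] at h
    exact @epi_of_epi _ _ _ _ _ _ _ h
  intro V t p hp
  obtain ⟨W, hW, hpW, e, he⟩ := exists_of_app_epi φ V t p hp
  obtain ⟨c, hc⟩ := hφ W e
  exact ⟨W, hW, hpW, c, he.symm.trans hc⟩

end QCohLib
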