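import Groth.Agent.QCohLib.Extend
import Groth.Agent.CechLib.Compare

/-!
# Vanishing of `H¹` from finite type submodules
-/

universe u
open CategoryTheory CategoryTheory.Limits TopologicalSpace Opposite AlgebraicGeometry

namespace QCohLib
variable {X : Scheme.{u}}

theorem isFT_biprod {A B : X.Modules} (hA : CohB1.IsFT A) (hB : CohB1.IsFT B) :
    CohB1.IsFT (A ⊞ B) := by
  refine isFT_of_forall fun p => ?_
  obtain ⟨U, hpU, n, s, hs⟩ := exists_genOn_of_isFT hA p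
  obtain ⟨V, hpV, m, t, ht⟩ := exists_genOn_of_isFT hB p
  let s' := fun i => (biprod.inl : A ⟶ A ⊞ B).app _
    (A.presheaf.map (homOfLE (inf_le_left : U ⊓ V ≤ U)).op (s i))
  let t' := fun i => (biprod.inr : B ⟶ A ⊞ B).app _
    (B.presheaf.map (homOfLE (inf_le_right : U ⊓ V ≤ V)).op (t i))
  let e : ULift.{u} (Fin (n + m)) ≃ ULift.{u} (Fin n) ⊕ ULift.{u} (Fin m) :=
    Equiv.ulift.trans (finSumFinEquiv.symm.trans (Equiv.sumCongr Equiv.ulift.symm Equiv.ulift.symm))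
  refine ⟨U ⊓ V, ⟨hpU, hpV⟩, n + m, fun i => Sum.elim s' t' (e i), GenOn.reindex ?_ e⟩
  intro W hW z q hq
  obtain ⟨W₁, h1, h1U, hq1, c, hc⟩ := hs W (hW.trans inf_le_left)
    ((biprod.fst : A ⊞ B ⟶ A).app W z) q hq
  obtain ⟨W₂, h2, h2V, hq2, d, hd⟩ := ht W₁ (h1.trans (hW.trans inf_le_right))
    ((biprod.snd : A ⊞ B ⟶ B).app W₁ ((A ⊞ B).presheaf.map (homOfLE h1).op z)) q hq1
  refine ⟨W₂, h2.trans h1, (h2.trans h1).trans hW, hq2,
    Sum.elim (fun i => X.presheaf.map (homOfLE h2).op (c i)) d, ?_⟩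
  have htot : ∀ w : Γ(A ⊞ B, W₂), w = (biprod.inl : A ⟶ A ⊞ B).app W₂
      ((biprod.fst : A ⊞ B ⟶ A).app W₂ w) +
      (biprod.inr : B ⟶ A ⊞ B).app W₂ ((biprod.snd : A ⊞ B ⟶ B).app W₂ w) := fun w =>
    (congr_arg (fun φ : A ⊞ B ⟶ A ⊞ B => φ.app W₂ w) biprod.total).symm
  rw [htot ((A ⊞ B).presheaf.map (homOfLE (h2.trans h1)).op z), Fintype.sum_sum_type]
  refine congr_arg₂ (· + ·) ?_ ?_
  · have h3 := congr_arg (A.presheaf.map (homOfLE h2).op) hc
    rw [map_map', map_sum] at h3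
    rw [app_map (biprod.fst : A ⊞ B ⟶ A)]
    refine (congr_arg _ h3).trans ((map_sum _ _ _).trans (Finset.sum_congr rfl fun i _ => ?_))
    simp only [Sum.elim_inl, s']
    rw [map_smul', app_smul, map_map', ← app_map, map_map']
    rfl
  · rw [app_map (biprod.snd : A ⊞ B ⟶ B)] at hd ⊢
    rw [map_map'] at hd
    refine (congr_arg _ hd).trans ((map_sum _ _ _).trans (Finset.sum_congr rfl fun i _ => ?_))
    simp only [Sum.elim_inr, t']
    rw [app_smul, ← app_map, map_map']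
    rfl

/-- A finite type submodule through finitely many sections. -/
theorem exists_ft_through_finset [CompactSpace X] [QuasiSeparatedSpace X] {K : X.Modules}
    [Coh.IsQCoh K] {κ : Type u} (t : Finset κ) (W : κ → X.Opens) (hW : ∀ i, IsAffineOpen (W i))
    (s : ∀ i, Γ(K, W i)) :
    ∃ (G : X.Modules) (j : G ⟶ K), Mono j ∧ Coh.IsQCoh G ∧ CohB1.IsFT G ∧
      ∀ i ∈ t, ∃ g : Γ(G, W i), j.app (W i) g = s i := by
  classical
  induction t using Finset.induction_on with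
  | empty =>
    refine ⟨kernel (𝟙 K), kernel.ι _, inferInstance, ?_, ?_, fun i hi => absurd hi (Finset.notMem_empty i)⟩
    all_goals
      have hz : IsZero (kernel (𝟙 K)) := by
        rw [IsZero.iff_id_eq_zero, ← cancel_mono (kernel.ι (𝟙 K)), zero_comp, Category.id_comp]
        exact (Category.comp_id _).symm.trans (kernel.condition (𝟙 K))
    · exact isQCoh_of_isZero hz
    · exact isFT_of_isZero hz
  | insert a t hat ih =>
    obtain ⟨G, j, hj, hG, hGft, hgen⟩ := ih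
    obtain ⟨S, hft, hs⟩ := LocSub.exists_ft_through (F := K) (W a) (hW a) (s a)
    have hS := LocSub.isQCoh_toModules S hft
    have : Coh.IsQCoh (G ⊞ S.toModules) := isQCoh_biprod _ _
    let φ : G ⊞ S.toModules ⟶ K := biprod.desc j S.ι
    refine ⟨Abelian.image φ, Abelian.image.ι φ, inferInstance, isQCoh_image φ,
      isFT_of_epi (Abelian.factorThruImage φ) (isFT_biprod hGft (LocSub.isFT_toModules S hft)),
      fun i hi => ?_⟩
    rcases Finset.mem_insert.mp hi with rfl | hi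
    · refine ⟨(biprod.inr ≫ Abelian.factorThruImage φ).app _ (S.lift (s i) hs), ?_⟩
      refine (congr_arg (fun θ : S.toModules ⟶ K => θ.app _ (S.lift (s i) hs))
        (show (biprod.inr ≫ Abelian.factorThruImage φ) ≫ Abelian.image.ι φ = S.ι by simp [φ]))
    · obtain ⟨g, hg⟩ := hgen i hi
      refine ⟨(biprod.inl ≫ Abelian.factorThruImage φ).app _ g, ?_⟩
      exact (congr_arg (fun θ : G ⟶ K => θ.app _ g)
        (show (biprod.inl ≫ Abelian.factorThruImage φ) ≫ Abelian.image.ι φ = j by simp [φ])).trans hg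

open CechLib in
/-- `H¹` of a quasi-coherent module vanishes if that of its finite type submodules does. -/
theorem subsingleton_H1_of_ft [CompactSpace X] [QuasiSeparatedSpace X] (K : X.Modules)
    [Coh.IsQCoh K] (h : ∀ (G : X.Modules) (j : G ⟶ K), Mono j → Coh.IsQCoh G → CohB1.IsFT G →
      Subsingleton (HU ((toAbF X).obj G) 1 ⊤)) :
    Subsingleton (HU ((toAbF X).obj K) 1 ⊤) := by
  classical
  let A := (toAbF X).obj K
  let S := injSeq A
  have hS : S.ShortExact := injSeq_shortExact A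
  refine subsingleton_of_forall_eq 0 fun x => ?_
  obtain ⟨q, rfl⟩ := delta0_surjective hS ⊤ x
  rw [delta0_eq_zero_iff]
  have hlift : ∀ V : X.affineOpens, ∃ t : S.X₂.obj.obj (op V.1),
      S.g.hom.app (op V.1) t = rs S.X₃.obj (le_top : V.1 ≤ ⊤) q := fun V =>
    @exists_lift_of_subsingleton _ S hS V.1 (subsingleton_HU_affine K 0 V.2) _
  choose t ht using hlift
  obtain ⟨T, hT⟩ : ∃ T : Finset X.affineOpens, (Set.univ : Set X) ⊆ ⋃ V ∈ T, (V.1 : Set X) :=
    isCompact_univ.elim_finite_subcover (fun V : X.affineOpens => (V.1 : Set X))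
      (fun V => V.1.isOpen) (fun p _ => by
        obtain ⟨V, hV, hp⟩ := exists_affine_nhd p
        exact Set.mem_iUnion.mpr ⟨⟨V, hV⟩, hp⟩)
  have hd : ∀ V V' : X.affineOpens, ∃ k : A.obj.obj (op (V.1 ⊓ V'.1)),
      S.f.hom.app (op (V.1 ⊓ V'.1)) k =
        rs S.X₂.obj inf_le_left (t V) - rs S.X₂.obj inf_le_right (t V') := fun V V' => by
    refine TopCat.Sheaf.sections_exact_of_left_exact (X := X.toTopCat) (S := S) hS.exact hS.mono_f _ ?_
    have e : ∀ {W W' : X.Opens} (hW : W ≤ W') (z : S.X₂.obj.obj (op W')),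
        S.g.hom.app (op W) (rs S.X₂.obj hW z) = rs S.X₃.obj hW (S.g.hom.app (op W') z) :=
      fun hW z => ConcreteCategory.congr_hom (S.g.hom.naturality (homOfLE hW).op) z
    rw [map_sub, e, e, ht, ht, rs_rs, rs_rs, sub_self]
  choose k hk using hd
  have hcov : ∀ P : X.affineOpens × X.affineOpens, ∃ R : Finset X.affineOpens,
      (∀ D ∈ R, D.1 ≤ P.1.1 ⊓ P.2.1) ∧ ((P.1.1 ⊓ P.2.1 : X.Opens) : Set X) ⊆ ⋃ D ∈ R, (D.1 : Set X) := by
    intro P
    have hc : IsCompact ((P.1.1 ⊓ P.2.1 : X.Opens) : Set X) :=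
      QuasiSeparatedSpace.inter_isCompact _ _ P.1.1.isOpen P.1.2.isCompact P.2.1.isOpen P.2.2.isCompact
    obtain ⟨R, hR⟩ := hc.elim_finite_subcover
      (fun D : {D : X.affineOpens // D.1 ≤ P.1.1 ⊓ P.2.1} => (D.1.1 : Set X))
      (fun D => D.1.1.isOpen) fun p hp => by
        obtain ⟨D, hD, hpD, hle⟩ := Opens.isBasis_iff_nbhd.mp X.isBasis_affineOpens hp
        exact Set.mem_iUnion.mpr ⟨⟨⟨D, hD⟩, hle⟩, hpD⟩
    refine ⟨R.image Subtype.val, fun D hD => ?_, fun p hp => ?_⟩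
    · obtain ⟨D', -, rfl⟩ := Finset.mem_image.mp hD
      exact D'.2
    · obtain ⟨D, hD, hpD⟩ := Set.mem_iUnion₂.mp (hR hp)
      exact Set.mem_iUnion₂.mpr ⟨D.1, Finset.mem_image_of_mem _ hD, hpD⟩
  choose R hRle hRcov using hcov
  let κ := Σ P : X.affineOpens × X.affineOpens, R P
  let tκ : Finset κ := (T ×ˢ T).sigma fun P => Finset.univ
  obtain ⟨G, j, hj, hG, hGft, hgen⟩ := exists_ft_through_finset (K := K) tκ
    (fun x => x.2.1.1) (fun x => x.2.1.2)
    (fun x => rs A.obj (hRle x.1 x.2.1 x.2.2) (k x.1.1 x.1.2))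
  let jA : (toAbF X).obj G ⟶ A := (toAbF X).map j
  have : Mono jA := inferInstanceAs (Mono ((toAbF X).map j))
  let f' := jA ≫ S.f
  have : Mono S.f := hS.mono_f
  have : Mono f' := inferInstanceAs (Mono (jA ≫ S.f))
  let S' : ShortComplex (AbSh X.toTopCat) :=
    ShortComplex.mk f' (cokernel.π f') (cokernel.condition f')
  have hS' : S'.ShortExact :=
    { exact := ShortComplex.exact_of_g_is_cokernel _ (cokernelIsCokernel _)
      mono_f := inferInstanceAs (Mono f')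
      epi_g := inferInstanceAs (Epi (cokernel.π f')) }
  let tl : ∀ V : T, S'.X₃.obj.obj (op V.1.1) := fun V => S'.g.hom.app (op V.1.1) (t V.1)
  have nat' : ∀ {W W' : X.Opens} (hW : W ≤ W') (z : S'.X₂.obj.obj (op W')),
      S'.g.hom.app (op W) (rs S'.X₂.obj hW z) = rs S'.X₃.obj hW (S'.g.hom.app (op W') z) :=
    fun hW z => ConcreteCategory.congr_hom (S'.g.hom.naturality (homOfLE hW).op) z
  obtain ⟨q', hq', -⟩ := TopCat.Sheaf.existsUnique_gluing' (S'.X₃ : TopCat.Sheaf AddCommGrpCat _)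
    (fun V : T => V.1.1) ⊤ (fun V => homOfLE le_top)
    (fun p _ => by
      obtain ⟨V, hV, hp⟩ := Set.mem_iUnion₂.mp (hT (Set.mem_univ p))
      exact Opens.mem_iSup.mpr ⟨⟨V, hV⟩, hp⟩) tl (fun V V' => by
      change rs S'.X₃.obj inf_le_left (tl V) = rs S'.X₃.obj inf_le_right (tl V')
      rw [← nat', ← nat', ← sub_eq_zero, ← map_sub]
      let P : X.affineOpens × X.affineOpens := (V.1, V'.1)
      refine TopCat.Sheaf.eq_of_locally_eq' (S'.X₃ : TopCat.Sheaf AddCommGrpCat _)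
        (fun D : R P => D.1.1) (V.1.1 ⊓ V'.1.1) (fun D => homOfLE (hRle P D.1 D.2))
        (fun p hp => by
          obtain ⟨D, hD, hpD⟩ := Set.mem_iUnion₂.mp (hRcov P hp)
          exact Opens.mem_iSup.mpr ⟨⟨D, hD⟩, hpD⟩) _ _ fun D => ?_
      obtain ⟨g, hg⟩ := hgen ⟨P, D⟩
        (Finset.mem_sigma.mpr ⟨Finset.mem_product.mpr ⟨V.2, V'.2⟩, Finset.mem_univ _⟩)
      change rs S'.X₃.obj _ (S'.g.hom.app _ _) = rs S'.X₃.obj _ 0
      rw [map_zero, ← nat', ← hk]
      have h1 : rs S.X₂.obj (hRle P D.1 D.2) (S.f.hom.app (op (V.1.1 ⊓ V'.1.1)) (k V.1 V'.1)) =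
          f'.hom.app (op D.1.1) g :=
        (ConcreteCategory.congr_hom (S.f.hom.naturality (homOfLE (hRle P D.1 D.2)).op)
          (k V.1 V'.1)).symm.trans (congr_arg (S.f.hom.app (op D.1.1)) hg.symm)
      refine (congr_arg _ h1).trans ?_
      exact congr_arg (fun φ : S'.X₁ ⟶ S'.X₃ => φ.hom.app (op D.1.1) g) S'.zero)
  obtain ⟨u, hu⟩ := @exists_lift_of_subsingleton _ S' hS' ⊤ (h G j hj hG hGft) q'
  let π : S'.X₃ ⟶ S.X₃ := cokernel.desc f' S.g (by simp [f', S.zero])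
  refine ⟨u, ?_⟩
  have hπ : ∀ (W : X.Opens) (z : S.X₂.obj.obj (op W)),
      π.hom.app (op W) (S'.g.hom.app (op W) z) = S.g.hom.app (op W) z := fun W z =>
    congr_arg (fun φ : S.X₂ ⟶ S.X₃ => φ.hom.app (op W) z) (cokernel.π_desc f' S.g (by simp [f', S.zero]))
  rw [← hπ, hu]
  refine TopCat.Sheaf.eq_of_locally_eq' (S.X₃ : TopCat.Sheaf AddCommGrpCat _)
    (fun V : T => V.1.1) ⊤ (fun V => homOfLE le_top)
    (fun p _ => by
      obtain ⟨V, hV, hp⟩ := Set.mem_iUnion₂.mp (hT (Set.mem_univ p))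
      exact Opens.mem_iSup.mpr ⟨⟨V, hV⟩, hp⟩) _ _ fun V => ?_
  refine (ConcreteCategory.congr_hom (π.hom.naturality (homOfLE (le_top : V.1.1 ≤ ⊤)).op) q').symm.trans ?_
  exact (congr_arg _ (hq' V)).trans ((hπ _ _).trans (ht V.1))

end QCohLib
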