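import Groth.Agent.QCohLib.AffineFinite
import Mathlib.AlgebraicGeometry.Morphisms.Finite

/-!
# Coherent modules on locally Noetherian schemes
-/

universe u
open CategoryTheory CategoryTheory.Limits TopologicalSpace Opposite AlgebraicGeometry

namespace QCohLib
variable {X Y : Scheme.{u}}

/-- A morphism on sections, linearly. -/
noncomputable def appLin {M N : X.Modules} (φ : M ⟶ N) (U : X.Opens) :
    Γ(M, U) →ₗ[Γ(X, U)] Γ(N, U) where
  toFun := φ.app U
  map_add' := map_add _
  map_smul' r x := app_smul φ U r x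

theorem exists_affine_nhd (p : X) : ∃ U : X.Opens, IsAffineOpen U ∧ p ∈ U := by
  obtain ⟨U, hU, hp, -⟩ :=
    Opens.isBasis_iff_nbhd.mp X.isBasis_affineOpens (U := ⊤) (x := p) trivial
  exact ⟨U, hU, hp⟩

/-- Quotients of modules of finite type. -/
theorem isFT_of_epi {M N : X.Modules} (φ : M ⟶ N) [Epi φ] (h : CohB1.IsFT M) : CohB1.IsFT N := by
  refine isFT_of_forall fun p => ?_
  obtain ⟨U, hU, n, s, hs⟩ := exists_genOn_of_isFT h p
  exact ⟨U, hU, n, _, hs.image φ⟩

theorem isFT_of_iso {M N : X.Modules} (e : M ≅ N) (h : CohB1.IsFT M) : CohB1.IsFT N :=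
  isFT_of_epi e.hom h

theorem isCoh_of_iso {M N : X.Modules} (e : M ≅ N) (h : Coh.IsCoh M) : Coh.IsCoh N :=
  have : Coh.IsQCoh M := h.1
  ⟨isQCoh_of_iso e, isFT_of_iso e h.2⟩

/-- Quasi-coherent submodules of coherent modules are coherent. -/
theorem isCoh_of_mono [IsLocallyNoetherian X] {M N : X.Modules} (i : N ⟶ M) [Mono i]
    (hM : Coh.IsCoh M) (hN : Coh.IsQCoh N) : Coh.IsCoh N := by
  have : Coh.IsQCoh M := hM.1
  refine ⟨hN, isFT_of_finite fun p => ?_⟩
  obtain ⟨U, hU, hp⟩ := exists_affine_nhd p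
  have : IsNoetherianRing Γ(X, U) := IsLocallyNoetherian.component_noetherian ⟨U, hU⟩
  have := finite_of_isFT hM.2 hU
  exact ⟨U, hU, hp, Module.Finite.of_injective (appLin i U) (app_injective_of_mono i U)⟩

theorem isCoh_kernel [IsLocallyNoetherian X] {M N : X.Modules} (φ : M ⟶ N) (hM : Coh.IsCoh M)
    (hN : Coh.IsQCoh N) : Coh.IsCoh (kernel φ) :=
  have : Coh.IsQCoh M := hM.1
  isCoh_of_mono (kernel.ι φ) hM (isQCoh_kernel φ)

theorem isCoh_cokernel {M N : X.Modules} (φ : M ⟶ N) (hM : Coh.IsQCoh M)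
    (hN : Coh.IsCoh N) : Coh.IsCoh (cokernel φ) :=
  ⟨@isQCoh_cokernel _ _ _ φ hM hN.1, isFT_of_epi (cokernel.π φ) hN.2⟩

/-- Direct images along finite morphisms. -/
theorem isCoh_push_finite (f : X ⟶ Y) [IsFinite f] [IsLocallyNoetherian Y] (M : X.Modules)
    (hM : Coh.IsCoh M) : Coh.IsCoh ((Coh.push f).obj M) := by
  have : Coh.IsQCoh M := hM.1
  have hq : Coh.IsQCoh ((Coh.push f).obj M) := isQCoh_pushforward f M
  refine ⟨hq, isFT_of_finite fun p => ?_⟩
  obtain ⟨V, hV, hp⟩ := exists_affine_nhd p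
  have := finite_of_isFT hM.2 (IsAffineOpen.preimage hV f)
  let _ : Algebra Γ(Y, V) Γ(X, f ⁻¹ᵁ V) := (f.app V).hom.toAlgebra
  have : Module.Finite Γ(Y, V) Γ(X, f ⁻¹ᵁ V) := IsFinite.finite_app (f := f) V hV
  let _ : Module Γ(Y, V) Γ(M, f ⁻¹ᵁ V) := Module.compHom _ (f.app V).hom
  have : IsScalarTower Γ(Y, V) Γ(X, f ⁻¹ᵁ V) Γ(M, f ⁻¹ᵁ V) :=
    ⟨fun r s x => (mul_smul (f.app V r) s x)⟩
  have hfin : Module.Finite Γ(Y, V) Γ(M, f ⁻¹ᵁ V) := Module.Finite.trans Γ(X, f ⁻¹ᵁ V) _
  refine ⟨V, hV, hp, ?_⟩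
  exact hfin

/-- Ascending chains of quasi-coherent submodules of a coherent module stabilise. -/
theorem acc_subobjects [IsNoetherian X] (M : X.Modules) (hM : Coh.IsCoh M)
    (F : ℕ →o Subobject M) (hF : ∀ n, Coh.IsQCoh ((F n : Subobject M) : X.Modules)) :
    ∃ n : ℕ, ∀ m : ℕ, n ≤ m → F m = F n := by
  classical
  have : Coh.IsQCoh M := hM.1
  obtain ⟨t, ht⟩ : ∃ t : Finset X.affineOpens, (Set.univ : Set X) ⊆ ⋃ V ∈ t, (V.1 : Set X) :=
    isCompact_univ.elim_finite_subcover (fun V : X.affineOpens => (V.1 : Set X))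
      (fun V => V.1.isOpen) (fun p _ => by
        obtain ⟨V, hV, hp⟩ := exists_affine_nhd p
        exact Set.mem_iUnion.mpr ⟨⟨V, hV⟩, hp⟩)
  have hmono : ∀ U : X.Opens, Monotone fun n => LinearMap.range (appLin (F n).arrow U) := by
    intro U m n hmn x
    rintro ⟨y, rfl⟩
    refine ⟨((F m).ofLE (F n) (F.monotone hmn)).app U y, ?_⟩
    exact congr_arg (fun φ : ((F m : Subobject M) : X.Modules) ⟶ M => φ.app U y)
      (Subobject.ofLE_arrow (F.monotone hmn))
  have hstab : ∀ U : X.affineOpens, ∃ n, ∀ m, n ≤ m →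
      LinearMap.range (appLin (F n).arrow U.1) = LinearMap.range (appLin (F m).arrow U.1) := fun U => by
    have : IsNoetherianRing Γ(X, U.1) := IsLocallyNoetherian.component_noetherian U
    have := finite_of_isFT hM.2 U.2
    exact monotone_stabilizes_iff_noetherian.mpr inferInstance
      ⟨fun n => LinearMap.range (appLin (F n).arrow U.1), hmono U.1⟩
  choose N hN using hstab
  refine ⟨t.sup N, fun m hm => ?_⟩
  set n := t.sup N
  let φ := (F n).ofLE (F m) (F.monotone hm)
  have hφ : φ ≫ (F m).arrow = (F n).arrow := Subobject.ofLE_arrow _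
  have : IsIso φ := by
    have : Epi φ := by
      refine epi_of_surjective_on_affines _ fun V s p hp => ?_
      obtain ⟨U, hU, hpU⟩ := Set.mem_iUnion₂.mp (ht (Set.mem_univ p))
      obtain ⟨g, hgV, hpg⟩ := exists_basicOpen_nhd U.2 hp hpU
      have hFm : Coh.IsQCoh ((F m : Subobject M) : X.Modules) := hF m
      obtain ⟨k, s', hs'⟩ := (@localizingAt_of_isQCoh _ _ U.2 _ hFm g).exists_extend
        (((F m : Subobject M) : X.Modules).presheaf.map (homOfLE hgV).op s)
      have hle : N U ≤ n := Finset.le_sup hU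
      have hr : LinearMap.range (appLin (F n).arrow U.1) = LinearMap.range (appLin (F m).arrow U.1) :=
        (hN U n hle).symm.trans (hN U m (hle.trans hm))
      obtain ⟨y, hy⟩ := hr.ge ⟨s', rfl⟩
      have hy' : φ.app U.1 y = s' := app_injective_of_mono (F m).arrow U.1
        ((congr_arg (fun ψ : ((F n : Subobject M) : X.Modules) ⟶ M => ψ.app U.1 y) hφ).trans hy)
      obtain ⟨u, hu⟩ := (isUnit_res g (le_refl (X.basicOpen g))).pow k
      refine ⟨X.basicOpen g, hgV, hpg, (↑u⁻¹ : Γ(X, X.basicOpen g)) •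
        ((F n : Subobject M) : X.Modules).presheaf.map (homOfLE (X.basicOpen_le g)).op y, ?_⟩
      rw [app_smul, app_map, hy', hs', ← hu, ← mul_smul, Units.inv_mul, one_smul]
    have : Mono φ := inferInstance
    exact isIso_of_mono_of_epi φ
  exact (Subobject.eq_of_comm (asIso φ) hφ).symm

theorem GenTop.genOn {M : X.Modules} {I : Type u} [Fintype I] {s : I → Γ(M, ⊤)} (h : GenTop s) :
    GenOn M ⊤ s := fun V _ t p hp => by
  obtain ⟨W, hW, hpW, c, hc⟩ := h V t p hp
  exact ⟨W, hW, le_top, hpW, c, hc⟩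

theorem GenOn.genTop {M : X.Modules} {I : Type u} [Fintype I] {s : I → Γ(M, ⊤)}
    (h : GenOn M ⊤ s) : GenTop s := fun V t p hp => by
  obtain ⟨W, hW, _, hpW, c, hc⟩ := h V le_top t p hp
  exact ⟨W, hW, hpW, c, hc⟩

theorem isFT_of_genTop {M : X.Modules} {I : Type u} [Fintype I] {s : I → Γ(M, ⊤)} (h : GenTop s) :
    CohB1.IsFT M :=
  isFT_of_genOn M (fun _ : PUnit.{u + 1} => ⊤) (by simp) (fun _ => I) (fun _ => s) (fun _ => h.genOn)

theorem isFinite_overPresentation (M : X.Modules) (V : X.Opens)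
    (P : (M.restrict V.ι).Presentation) (h : P.IsFinite) : (overPresentation M V P).IsFinite := by
  have := h.isFiniteType_generators
  have := h.isFiniteType_relations
  exact { isFiniteType_generators := ⟨(inferInstance : Finite P.generators.I)⟩
          isFiniteType_relations := ⟨(inferInstance : Finite P.relations.I)⟩ }

/-- A finite presentation on an affine open. -/
theorem isFP_of_isCoh [IsLocallyNoetherian X] (M : X.Modules) (hM : Coh.IsCoh M) : CohB1.IsFP M := by
  have hMq : Coh.IsQCoh M := hM.1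
  choose U hU hpU using fun p : X => exists_affine_nhd p
  have key : ∀ p, ∃ P : (M.restrict (U p).ι).Presentation, P.IsFinite := by
    intro p
    let Z : Scheme.{u} := U p
    have hZ : IsAffine Z := hU p
    have hcoh : Coh.IsCoh (M.restrict (U p).ι) := by
      have hq : Coh.IsQCoh (M.restrict (U p).ι) := inferInstance
      obtain ⟨I, _, s, hs⟩ := exists_genOn_affine hM.2 (hU p)
      exact ⟨hq, isFT_of_genTop (genTop_restrict hs)⟩
    obtain ⟨I, _, s, hs⟩ := exists_genOn_affine hcoh.2 (isAffineOpen_top Z)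
    have hg : GenTop s := hs.genTop
    let σ := hg.generatingSections
    have hfree : Coh.IsQCoh (SheafOfModules.free (R := Z.ringCatSheaf) I) :=
      isQCoh_sigma (fun _ : I => Coh.structureModule Z) (fun _ => isQCoh_unit)
    have hfreeCoh : Coh.IsCoh (SheafOfModules.free (R := Z.ringCatSheaf) I) := by
      refine ⟨hfree, ?_⟩
      have hepi : Epi ((SheafOfModules.free (R := Z.ringCatSheaf) I).freeHomEquiv.symm
          (fun i => SheafOfModules.freeSection i)) := by
        rw [show (fun i => SheafOfModules.freeSection (R := Z.ringCatSheaf) i) =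
          (SheafOfModules.free (R := Z.ringCatSheaf) I).freeHomEquiv (𝟙 _) from rfl,
          Equiv.symm_apply_apply]
        infer_instance
      exact isFT_of_genTop
        (genTop_of_epi (M := (SheafOfModules.free (R := Z.ringCatSheaf) I : Z.Modules))
          (fun i => SheafOfModules.freeSection i))
    have hK : Coh.IsCoh (kernel σ.π) := isCoh_kernel (X := Z) σ.π hfreeCoh hcoh.1
    obtain ⟨J, _, r, hr⟩ := @exists_genOn_affine Z (kernel σ.π) hK.1 hK.2 ⊤ (isAffineOpen_top Z)
    have hgr : GenTop r := hr.genTop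
    exact ⟨{ generators := σ, relations := hgr.generatingSections },
      { isFiniteType_generators := ⟨inferInstanceAs (Finite I)⟩
        isFiniteType_relations := ⟨inferInstanceAs (Finite J)⟩ }⟩
  choose P hP using key
  refine SheafOfModules.IsFinitePresentation.mk (R := X.ringCatSheaf)
    ⟨({ I := X
        X := U
        coversTop := (Opens.coversTop_iff (X : Type u) U).mpr
          (eq_top_iff.mpr fun p _ => Opens.mem_iSup.mpr ⟨p, hpU p⟩)
        presentation := fun p => overPresentation M (U p) (P p) } :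
        SheafOfModules.QuasicoherentData.{u} (R := X.ringCatSheaf) M), ?_⟩
  exact SheafOfModules.QuasicoherentData.IsFinitePresentation.mk (R := X.ringCatSheaf)
    fun (p : X) => isFinite_overPresentation M (U p) (P p) (hP p)

end QCohLib
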