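import Groth.Agent.QCohLib.AbCoh
import Mathlib.CategoryTheory.Abelian.RightDerived
import Mathlib.CategoryTheory.Abelian.Injective.Resolution

universe u
open CategoryTheory CategoryTheory.Limits TopologicalSpace Opposite CategoryTheory.Abelian

namespace QCohLib
variable {X Y : TopCat.{u}}

/-! ### Consequences of the long exact sequence -/

theorem subsingleton_X₃ {S : ShortComplex (AbSh X)} (hS : S.ShortExact) {n : ℕ} {U : Opens X}
    [Subsingleton (HU S.X₂ n U)] [Subsingleton (HU S.X₁ (n + 1) U)] :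
    Subsingleton (HU S.X₃ n U) := by
  refine subsingleton_of_forall_eq 0 fun x => ?_
  obtain ⟨y, rfl⟩ := Ext.covariant_sequence_exact₃ _ hS x rfl (Subsingleton.elim _ _)
  rw [Subsingleton.elim y 0, Ext.zero_comp]

theorem subsingleton_X₁ {S : ShortComplex (AbSh X)} (hS : S.ShortExact) {n : ℕ} {U : Opens X}
    [Subsingleton (HU S.X₂ (n + 1) U)] [Subsingleton (HU S.X₃ n U)] :
    Subsingleton (HU S.X₁ (n + 1) U) := by
  refine subsingleton_of_forall_eq 0 fun x => ?_
  obtain ⟨y, rfl⟩ := exists_eq_comp_extClass hS x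
  rw [Subsingleton.elim y 0, Ext.zero_comp]

theorem subsingleton_of_iso {F G : AbSh X} (e : F ≅ G) {n : ℕ} {U : Opens X}
    [Subsingleton (HU F n U)] : Subsingleton (HU G n U) := by
  refine subsingleton_of_forall_eq 0 fun x => ?_
  have : x = (x.comp (Ext.mk₀ e.inv) (add_zero n)).comp (Ext.mk₀ e.hom) (add_zero n) := by simp
  rw [this, Subsingleton.elim (x.comp (Ext.mk₀ e.inv) (add_zero n)) 0, Ext.zero_comp]

/-- The connecting map as an isomorphism between higher degrees. -/
noncomputable def deltaEquiv {S : ShortComplex (AbSh X)} (hS : S.ShortExact) (n : ℕ) (U : Opens X)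
    [Subsingleton (HU S.X₂ (n + 1) U)] [Subsingleton (HU S.X₂ (n + 2) U)] :
    HU S.X₃ (n + 1) U ≃+ HU S.X₁ (n + 2) U :=
  AddEquiv.ofBijective (hS.extClass.postcomp (zsh U) rfl)
    ⟨(injective_iff_map_eq_zero _).mpr fun x hx => by
      obtain ⟨y, rfl⟩ := Ext.covariant_sequence_exact₃ _ hS x rfl hx
      rw [Subsingleton.elim y 0, Ext.zero_comp],
    fun x => exists_eq_comp_extClass (n := n + 1) hS x⟩

/-- The connecting map in degree zero. -/
noncomputable def delta0 {S : ShortComplex (AbSh X)} (hS : S.ShortExact) (U : Opens X) :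
    S.X₃.obj.obj (op U) →+ HU S.X₁ 1 U :=
  (hS.extClass.postcomp (zsh U) (zero_add 1)).comp h0.symm.toAddMonoidHom

theorem delta0_surjective {S : ShortComplex (AbSh X)} (hS : S.ShortExact) (U : Opens X)
    [Subsingleton (HU S.X₂ 1 U)] : Function.Surjective (delta0 hS U) := fun x => by
  obtain ⟨y, hy⟩ := exists_eq_comp_extClass (n := 0) hS x
  exact ⟨h0 y, by simpa [delta0] using hy⟩

theorem delta0_eq_zero_iff {S : ShortComplex (AbSh X)} (hS : S.ShortExact) (U : Opens X)
    (q : S.X₃.obj.obj (op U)) : delta0 hS U q = 0 ↔ ∃ t, S.g.hom.app (op U) t = q := by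
  constructor
  · intro h
    obtain ⟨y, hy⟩ := Ext.covariant_sequence_exact₃ _ hS (h0.symm q) (zero_add 1) h
    exact ⟨h0 y, by rw [← h0_comp, hy, AddEquiv.apply_symm_apply]⟩
  · rintro ⟨t, rfl⟩
    have : h0.symm (S.g.hom.app (op U) t) =
        (h0.symm t).comp (Ext.mk₀ S.g) (add_zero 0) := by
      rw [AddEquiv.symm_apply_eq, h0_comp, AddEquiv.apply_symm_apply]
    change Ext.comp (h0.symm (S.g.hom.app (op U) t)) hS.extClass (zero_add 1) = 0
    rw [this, Ext.comp_assoc_of_second_deg_zero, hS.comp_extClass, Ext.comp_zero]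

theorem nonempty_addEquiv_of_ker_eq {A B C : Type*} [AddCommGroup A] [AddCommGroup B]
    [AddCommGroup C] (φ : A →+ B) (ψ : A →+ C) (hφ : Function.Surjective φ)
    (hψ : Function.Surjective ψ) (hk : φ.ker = ψ.ker) : Nonempty (B ≃+ C) :=
  ⟨(QuotientAddGroup.quotientKerEquivOfSurjective φ hφ).symm.trans
    ((QuotientAddGroup.quotientAddEquivOfEq hk).trans
      (QuotientAddGroup.quotientKerEquivOfSurjective ψ hψ))⟩

/-! ### Push-forward -/

variable (f : X ⟶ Y)

/-- Direct image of abelian sheaves. -/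
noncomputable abbrev pf : AbSh X ⥤ AbSh Y := TopCat.Sheaf.pushforward AddCommGrpCat.{u} f

/-- The preimage of an open. -/
abbrev pre (V : Opens Y) : Opens X := (Opens.map f).obj V

/-- Cohomology above degree `d` vanishes on preimages of the members of `B`. -/
def AcyclicAbove (B : Set (Opens Y)) (d : ℕ) (F : AbSh X) : Prop :=
  ∀ V ∈ B, ∀ n, d ≤ n → Subsingleton (HU F (n + 1) (pre f V))

variable {f} {B : Set (Opens Y)}

theorem acyclicAbove_injective (F : AbSh X) [Injective F] (d : ℕ) : AcyclicAbove f B d F :=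
  fun _ _ _ _ => inferInstance

theorem AcyclicAbove.of_iso {F G : AbSh X} (e : F ≅ G) {d : ℕ} (h : AcyclicAbove f B d F) :
    AcyclicAbove f B d G :=
  fun V hV n hn => have := h V hV n hn; subsingleton_of_iso e

theorem AcyclicAbove.mono {F : AbSh X} {d e : ℕ} (h : AcyclicAbove f B d F) (hde : d ≤ e) :
    AcyclicAbove f B e F := fun V hV n hn => h V hV n (hde.trans hn)

theorem AcyclicAbove.quotient {S : ShortComplex (AbSh X)} (hS : S.ShortExact) [Injective S.X₂]
    {d : ℕ} (h : AcyclicAbove f B d S.X₁) : AcyclicAbove f B (d - 1) S.X₃ := fun V hV n hn => by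
  have := h V hV (n + 1) (by omega)
  exact subsingleton_X₃ hS

instance pf_additive : (pf f).Additive where

theorem pf_exact_and_mono {S : ShortComplex (AbSh X)} (hS : S.Exact) (hf : Mono S.f) :
    (S.map (pf f)).Exact ∧ Mono ((pf f).map S.f) := by
  have : PreservesLimitsOfSize.{u, u} (pf f) :=
    (TopCat.Sheaf.pullbackPushforwardAdjunction AddCommGrpCat.{u} f).rightAdjoint_preservesLimits
  exact ((Functor.preservesFiniteLimits_tfae (pf f)).out 1 3 rfl rfl).mpr
    inferInstance S ⟨hS, hf⟩

theorem pf_epi (hB : Opens.IsBasis B) {S : ShortComplex (AbSh X)} (hS : S.ShortExact)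
    (h : AcyclicAbove f B 0 S.X₁) : Epi ((pf f).map S.g) := by
  refine (Sheaf.isLocallySurjective_iff_epi' (φ := (pf f).map S.g)).mp
    ((TopCat.Presheaf.isLocallySurjective_iff _).mpr ?_)
  intro V s p hp
  obtain ⟨W, hWB, hpW, hWV⟩ := Opens.isBasis_iff_nbhd.mp hB hp
  have := h W hWB 0 le_rfl
  obtain ⟨t, ht⟩ := exists_lift_of_subsingleton hS (U := pre f W)
    (((pf f).obj S.X₃).obj.map (homOfLE hWV).op s)
  exact ⟨W, hWV, ⟨t, ht⟩, hpW⟩

theorem pf_shortExact (hB : Opens.IsBasis B) {S : ShortComplex (AbSh X)} (hS : S.ShortExact)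
    (h : AcyclicAbove f B 0 S.X₁) : (S.map (pf f)).ShortExact :=
  { exact := (pf_exact_and_mono hS.exact hS.mono_f).1
    mono_f := (pf_exact_and_mono hS.exact hS.mono_f).2
    epi_g := pf_epi hB hS h }

theorem isFlasque_pf (F : AbSh X) [TopCat.Sheaf.IsFlasque (F : TopCat.Sheaf AddCommGrpCat X)] :
    TopCat.Sheaf.IsFlasque ((pf f).obj F : TopCat.Sheaf AddCommGrpCat Y) :=
  TopCat.Sheaf.IsFlasque.pushforward_isFlasque (F : TopCat.Sheaf AddCommGrpCat X) f

theorem subsingleton_pf_injective (F : AbSh X) [Injective F] (n : ℕ) (V : Opens Y) :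
    Subsingleton (HU ((pf f).obj F) (n + 1) V) :=
  have := isFlasque_pf (f := f) F
  subsingleton_of_isFlasque n _ V

/-- Cohomology of a direct image of an acyclic sheaf. -/
theorem nonempty_pfEquiv (hB : Opens.IsBasis B) (n : ℕ) (F : AbSh X)
    (h : AcyclicAbove f B 0 F) (V : Opens Y) :
    Nonempty (HU ((pf f).obj F) n V ≃+ HU F n (pre f V)) := by
  induction n using Nat.strong_induction_on generalizing F with
  | _ n ih =>
    let S := injSeq F
    have hS : S.ShortExact := injSeq_shortExact F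
    have hT : (S.map (pf f)).ShortExact := pf_shortExact hB hS h
    match n, ih with
    | 0, _ => exact ⟨(h0 (F := (pf f).obj F) (U := V)).trans (h0 (F := F) (U := pre f V)).symm⟩
    | 1, _ =>
      have : Subsingleton (HU (S.map (pf f)).X₂ 1 V) := subsingleton_pf_injective S.X₂ 0 V
      have hk : (delta0 hT V).ker = (delta0 hS (pre f V)).ker := by
        ext q
        exact (delta0_eq_zero_iff hT V q).trans (delta0_eq_zero_iff hS (pre f V) q).symm
      exact nonempty_addEquiv_of_ker_eq _ _ (delta0_surjective hT V) (delta0_surjective hS (pre f V)) hk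
    | m + 2, ih =>
      have : Subsingleton (HU (S.map (pf f)).X₂ (m + 1) V) := subsingleton_pf_injective S.X₂ m V
      have : Subsingleton (HU (S.map (pf f)).X₂ (m + 2) V) :=
        subsingleton_pf_injective S.X₂ (m + 1) V
      obtain ⟨e⟩ := ih (m + 1) (by omega) S.X₃ (AcyclicAbove.quotient hS h)
      exact ⟨(deltaEquiv hT m V).symm.trans (e.trans (deltaEquiv hS m (pre f V)))⟩

/-! ### Higher direct images -/

variable {F : AbSh X} (I : InjectiveResolution F)

/-- The cycle sequences of a resolution. -/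
noncomputable abbrev cycleSeq (k : ℕ) : ShortComplex (AbSh X) :=
  ShortComplex.mk (kernel.ι (I.cocomplex.d k (k + 1)))
    (kernel.lift (I.cocomplex.d (k + 1) (k + 2)) (I.cocomplex.d k (k + 1))
      (I.cocomplex.d_comp_d _ _ _))
    (by rw [← cancel_mono (kernel.ι (I.cocomplex.d (k + 1) (k + 2)))]; simp)

theorem cycleSeq_shortExact (k : ℕ) : (cycleSeq I k).ShortExact where
  mono_f := inferInstanceAs (Mono (kernel.ι _))
  epi_g := (ShortComplex.exact_iff_epi_kernel_lift _).mp (I.exact_succ k)
  exact := ShortComplex.exact_of_f_is_kernel _ <|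
    KernelFork.IsLimit.ofι' _ _ fun {A} g hg => ⟨kernel.lift _ g (by
      rw [← kernel.lift_ι (I.cocomplex.d (k + 1) (k + 2)) (I.cocomplex.d k (k + 1))
        (I.cocomplex.d_comp_d _ _ _), ← Category.assoc, hg, zero_comp]), kernel.lift_ι _ _ _⟩

theorem acyclicAbove_cycle {d : ℕ} (h : AcyclicAbove f B d F) (k : ℕ) :
    AcyclicAbove f B (d - k) (kernel (I.cocomplex.d k (k + 1))) := by
  induction k with
  | zero =>
    have : Mono (I.ι.f 0) := inferInstance
    exact h.of_iso ((I.exact₀.fIsKernel).conePointUniqueUpToIso (limit.isLimit _))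
  | succ k ih =>
    have := AcyclicAbove.quotient (cycleSeq_shortExact I k) ih
    rwa [Nat.sub_sub] at this

/-- Vanishing of higher direct images. -/
theorem isZero_rightDerived (hB : Opens.IsBasis B) {d : ℕ} (h : AcyclicAbove f B d F) {p : ℕ}
    (hp : d < p) : IsZero (((pf f).rightDerived p).obj F) := by
  obtain ⟨k, rfl⟩ : ∃ k, p = k + 1 := ⟨p - 1, by omega⟩
  let I := Classical.choice ((HasInjectiveResolutions.out F).out)
  refine IsZero.of_iso ?_ (I.isoRightDerivedObj (pf f) (k + 1))
  let K := ((pf f).mapHomologicalComplex _).obj I.cocomplex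
  change IsZero (K.homology (k + 1))
  rw [← HomologicalComplex.exactAt_iff_isZero_homology,
    K.exactAt_iff' k (k + 1) (k + 2) (by simp) (by simp [CochainComplex.next])]
  have hZ : AcyclicAbove f B 0 (cycleSeq I k).X₁ :=
    (acyclicAbove_cycle I h k).mono (by omega)
  have hepi := pf_epi hB (cycleSeq_shortExact I k) hZ
  have hker := pf_exact_and_mono (f := f)
    (cycleSeq_shortExact I (k + 1)).exact (cycleSeq_shortExact I (k + 1)).mono_f
  rw [ShortComplex.exact_iff_epi_kernel_lift]
  have hm : Mono ((pf f).map (kernel.ι (I.cocomplex.d (k + 1) (k + 2)))) := hker.2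
  have hcomp : (pf f).map (kernel.ι (I.cocomplex.d (k + 1) (k + 2))) ≫
      (pf f).map (I.cocomplex.d (k + 1) (k + 2)) = 0 := by
    rw [← Functor.map_comp, kernel.condition, Functor.map_zero]
  have : PreservesLimitsOfSize.{u, u} (pf f) :=
    (TopCat.Sheaf.pullbackPushforwardAdjunction AddCommGrpCat.{u} f).rightAdjoint_preservesLimits
  let e := PreservesKernel.iso (pf f) (I.cocomplex.d (k + 1) (k + 2))
  have hlift : kernel.lift ((pf f).map (I.cocomplex.d (k + 1) (k + 2)))
      ((pf f).map (I.cocomplex.d k (k + 1))) (by rw [← Functor.map_comp, I.cocomplex.d_comp_d, Functor.map_zero]) =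
      (pf f).map (cycleSeq I k).g ≫ e.hom := by
    rw [← cancel_mono (kernel.ι _), kernel.lift_ι, Category.assoc]
    simp only [e, PreservesKernel.iso_hom, kernelComparison_comp_ι]
    rw [← Functor.map_comp, kernel.lift_ι]
  refine Eq.mpr (congrArg Epi hlift) ?_
  exact @epi_comp _ _ _ _ _ _ hepi e.hom inferInstance

end QCohLib
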