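import Groth.Agent.QCohLib.Affine

universe u
open CategoryTheory CategoryTheory.Limits TopologicalSpace Opposite AlgebraicGeometry

namespace QCohLib
variable {X : Scheme.{u}}

theorem ringMap_map' {W V U : X.Opens} (i : W ⟶ V) (j : V ⟶ U) (x : Γ(X, U)) :
    X.presheaf.map i.op (X.presheaf.map j.op x) = X.presheaf.map (i ≫ j).op x := by
  rw [op_comp, Functor.map_comp]; rfl

theorem isUnit_res {U V : X.Opens} (f : Γ(X, U)) (h : V ≤ X.basicOpen f) :
    IsUnit (X.presheaf.map (homOfLE (h.trans (X.basicOpen_le f))).op f) := by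
  rw [← homOfLE_comp h (X.basicOpen_le f), ← ringMap_map']
  exact (RingedSpace.isUnit_res_basicOpen X.toRingedSpace f).map
    (X.presheaf.map (homOfLE h).op).hom

/-- On an affine open `W` covered by `D(a)` and `D(b)`, sections over the overlap are differences. -/
theorem exists_sub_eq {W : X.Opens} (hW : IsAffineOpen W) (M : X.Modules) [Coh.IsQCoh M]
    (a b : Γ(X, W)) (hab : Ideal.span {a, b} = ⊤) (s : Γ(M, X.basicOpen a ⊓ X.basicOpen b)) :
    ∃ (A : Γ(M, X.basicOpen a)) (B : Γ(M, X.basicOpen b)),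
      M.presheaf.map (homOfLE inf_le_left).op A -
        M.presheaf.map (homOfLE inf_le_right).op B = s := by
  have hle : X.basicOpen a ⊓ X.basicOpen b ≤ W := inf_le_left.trans (X.basicOpen_le a)
  have h : LocPair M (a * b) W (X.basicOpen a ⊓ X.basicOpen b) hle le_rfl :=
    (locPair_congr rfl (X.basicOpen_mul a b)).mp (localizingAt_of_isQCoh hW M (a * b))
  obtain ⟨n, t, ht⟩ := h.exists_extend s
  obtain ⟨c, d, hcd⟩ : IsCoprime (a ^ n) (b ^ n) :=
    IsCoprime.pow (m := n) (n := n)
      (Ideal.mem_span_pair.mp ((Ideal.eq_top_iff_one _).mp hab) : IsCoprime a b)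
  obtain ⟨ua, hua⟩ := (isUnit_res a le_rfl).pow n
  obtain ⟨ub, hub⟩ := (isUnit_res b le_rfl).pow n
  refine ⟨((↑ua⁻¹ : Γ(X, _)) * X.presheaf.map (homOfLE (X.basicOpen_le a)).op d) •
      M.presheaf.map (homOfLE (X.basicOpen_le a)).op t,
    -(((↑ub⁻¹ : Γ(X, _)) * X.presheaf.map (homOfLE (X.basicOpen_le b)).op c) •
      M.presheaf.map (homOfLE (X.basicOpen_le b)).op t), ?_⟩
  set rI := X.presheaf.map (homOfLE hle).op with hrI
  set tI := M.presheaf.map (homOfLE hle).op t with htI
  set α := X.presheaf.map (homOfLE (inf_le_left : X.basicOpen a ⊓ X.basicOpen b ≤ _)).op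
    (↑ua⁻¹ : Γ(X, X.basicOpen a)) with hα
  set β := X.presheaf.map (homOfLE (inf_le_right : X.basicOpen a ⊓ X.basicOpen b ≤ _)).op
    (↑ub⁻¹ : Γ(X, X.basicOpen b)) with hβ
  have eA : M.presheaf.map (homOfLE inf_le_left).op
      (((↑ua⁻¹ : Γ(X, _)) * X.presheaf.map (homOfLE (X.basicOpen_le a)).op d) •
      M.presheaf.map (homOfLE (X.basicOpen_le a)).op t) = (α * rI d) • tI := by
    refine (M.map_smul (homOfLE inf_le_left) _ _).trans ?_
    rw [map_mul, ringMap_map', map_map', homOfLE_comp]
  have eB : M.presheaf.map (homOfLE inf_le_right).op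
      (((↑ub⁻¹ : Γ(X, _)) * X.presheaf.map (homOfLE (X.basicOpen_le b)).op c) •
      M.presheaf.map (homOfLE (X.basicOpen_le b)).op t) = (β * rI c) • tI := by
    refine (M.map_smul (homOfLE inf_le_right) _ _).trans ?_
    rw [map_mul, ringMap_map', map_map', homOfLE_comp]
  rw [map_neg, sub_neg_eq_add, eA, eB]
  have ha : α * rI a ^ n = 1 := by
    rw [hα, hrI, ← homOfLE_comp (inf_le_left : X.basicOpen a ⊓ X.basicOpen b ≤ _) (X.basicOpen_le a),
      ← ringMap_map', ← map_pow, ← hua, ← map_mul, Units.inv_mul, map_one]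
  have hb : β * rI b ^ n = 1 := by
    rw [hβ, hrI, ← homOfLE_comp (inf_le_right : X.basicOpen a ⊓ X.basicOpen b ≤ _) (X.basicOpen_le b),
      ← ringMap_map', ← map_pow, ← hub, ← map_mul, Units.inv_mul, map_one]
  have key : IsUnit (rI (a * b) ^ n) := by
    rw [map_mul, mul_pow]
    exact (IsUnit.of_mul_eq_one_right _ ha).mul (IsUnit.of_mul_eq_one_right _ hb)
  refine (IsUnit.smul_left_cancel key).mp (Eq.trans ?_ ht)
  rw [smul_add, smul_smul, smul_smul, ← add_smul]
  have h1 : rI c * rI a ^ n + rI d * rI b ^ n = 1 := by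
    rw [← map_pow, ← map_pow, ← map_mul, ← map_mul, ← map_add, hcd, map_one]
  have : rI (a * b) ^ n * (α * rI d) + rI (a * b) ^ n * (β * rI c) = 1 := by
    rw [map_mul, mul_pow]
    linear_combination (rI d * rI b ^ n) * ha + (rI c * rI a ^ n) * hb + h1
  rw [this, one_smul]

/-- Serre vanishing on affine opens. -/
theorem subsingleton_HU_affine (M : X.Modules) [Coh.IsQCoh M] (n : ℕ) {U : X.Opens}
    (hU : IsAffineOpen U) : Subsingleton (HU ((toAbF X).obj M) (n + 1) U) := by
  induction n using Nat.strong_induction_on generalizing U with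
  | _ n ih =>
    -- two-piece Mayer–Vietoris on an affine open
    have two : ∀ {W : X.Opens}, IsAffineOpen W → ∀ (a b : Γ(X, W)), Ideal.span {a, b} = ⊤ →
        ∀ y : HU ((toAbF X).obj M) n (X.basicOpen a ⊓ X.basicOpen b),
          ∃ (A : HU ((toAbF X).obj M) n (X.basicOpen a)) (B : HU ((toAbF X).obj M) n (X.basicOpen b)),
            res (homOfLE inf_le_left) A - res (homOfLE inf_le_right) B = y := by
      intro W hW a b hab y
      cases n with
      | zero =>
        obtain ⟨A, B, hAB⟩ := exists_sub_eq hW M a b hab (h0 y)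
        obtain ⟨A', rfl⟩ := (h0 (F := (toAbF X).obj M) (U := X.basicOpen a)).surjective A
        obtain ⟨B', rfl⟩ := (h0 (F := (toAbF X).obj M) (U := X.basicOpen b)).surjective B
        refine ⟨A', B', h0.injective ?_⟩
        rw [map_sub, h0_res, h0_res]
        exact hAB
      | succ k =>
        have h2 : IsAffineOpen (X.basicOpen a ⊓ X.basicOpen b) :=
          X.basicOpen_mul a b ▸ hW.basicOpen (a * b)
        have := ih k (Nat.lt_succ_self k) h2
        exact ⟨0, 0, Subsingleton.elim _ _⟩
    refine subsingleton_of_forall_eq 0 fun x => ?_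
    let S : Set Γ(X, U) := {f | res (homOfLE (X.basicOpen_le f)) x = 0}
    have hdown : ∀ f ∈ S, ∀ (V : X.Opens) (i : V ⟶ U), V ≤ X.basicOpen f → res i x = 0 := by
      intro f hf V i hV
      have : res (homOfLE hV) (res (homOfLE (X.basicOpen_le f)) x) = 0 := by rw [hf, map_zero]
      rwa [res_res] at this
    have hmul : ∀ f ∈ S, ∀ r, r * f ∈ S := fun f hf r => hdown f hf _ _
      (by rw [X.basicOpen_mul]; exact inf_le_right)
    have hadd : ∀ f ∈ S, ∀ g ∈ S, f + g ∈ S := by
      intro f hf g hg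
      let W := X.basicOpen (f + g)
      have hWU : W ≤ U := X.basicOpen_le _
      have hW : IsAffineOpen W := hU.basicOpen _
      let a := X.presheaf.map (homOfLE hWU).op f
      let b := X.presheaf.map (homOfLE hWU).op g
      have hab : Ideal.span {a, b} = ⊤ := by
        refine Ideal.eq_top_of_isUnit_mem _ ?_ (isUnit_res (f + g) le_rfl)
        rw [map_add]
        exact add_mem (Ideal.subset_span (Set.mem_insert _ _))
          (Ideal.subset_span (Set.mem_insert_of_mem _ rfl))
      have hsup : X.basicOpen a ⊔ X.basicOpen b = W := by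
        refine le_antisymm (sup_le (X.basicOpen_le _) (X.basicOpen_le _)) ?_
        rw [X.basicOpen_res, X.basicOpen_res, ← inf_sup_left]
        exact le_inf le_rfl (X.basicOpen_add_le f g)
      have key : res (homOfLE (hsup.le.trans hWU)) x = 0 := by
        refine mv_eq_zero _ ?_ ?_ (two hW a b hab)
        · rw [res_res]; exact hdown f hf _ _ (by rw [X.basicOpen_res]; exact inf_le_right)
        · rw [res_res]; exact hdown g hg _ _ (by rw [X.basicOpen_res]; exact inf_le_right)
      have := congrArg (res (homOfLE hsup.ge)) key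
      rwa [map_zero, res_res] at this
    by_cases hne : U = ⊥
    · subst hne
      exact Subsingleton.elim _ _
    have hcov : U ≤ ⨆ f : S, X.basicOpen f.1 := by
      intro p hp
      obtain ⟨V, i, hpV, hV⟩ := exists_res_eq_zero n x hp
      obtain ⟨f, hfV, hpf⟩ := hU.exists_basicOpen_le ⟨p, hpV⟩ hp
      refine Opens.mem_iSup.mpr ⟨⟨f, ?_⟩, hpf⟩
      have := congrArg (res (homOfLE hfV)) hV
      rwa [map_zero, res_res] at this
    let I : Ideal Γ(X, U) :=
      { carrier := S
        add_mem' := fun hf hg => hadd _ hf _ hg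
        zero_mem' := by
          obtain ⟨p, hp⟩ : (U : Set X).Nonempty := Set.nonempty_iff_ne_empty.mpr fun h =>
            hne (Opens.ext h)
          obtain ⟨⟨f, hf⟩, -⟩ := Opens.mem_iSup.mp (hcov hp)
          simpa using hmul f hf 0
        smul_mem' := fun r f hf => hmul f hf r }
    have h1 : (1 : Γ(X, U)) ∈ I :=
      Ideal.span_le.mpr (subset_refl (I : Set Γ(X, U)))
        ((Ideal.eq_top_iff_one _).mp (hU.self_le_iSup_basicOpen_iff.mp hcov))
    have h2 := hdown 1 h1 U (𝟙 U) (by rw [X.basicOpen_of_isUnit isUnit_one])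
    rwa [res_apply, zmap, CategoryTheory.Functor.map_id, Functor.whiskerRight_id',
      CategoryTheory.Functor.map_id, Abelian.Ext.mk₀_id_comp] at h2

theorem subsingleton_HH_affine [IsAffine X] (M : X.Modules) [Coh.IsQCoh M] (p : ℕ) (hp : 0 < p) :
    Subsingleton (Coh.HH X M p) := by
  obtain ⟨n, rfl⟩ : ∃ n, p = n + 1 := ⟨p - 1, by omega⟩
  exact (subsingleton_H_iff ((toAbF X).obj M) _).mpr
    (subsingleton_HU_affine M n (isAffineOpen_top X))

/-- Taking sections over an affine open is exact when the kernel is quasi-coherent. -/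
theorem app_surjective_of_affine {S : ShortComplex X.Modules} (hS : S.ShortExact)
    [Coh.IsQCoh S.X₁] {U : X.Opens} (hU : IsAffineOpen U) : Function.Surjective (S.g.app U) := by
  intro s
  have : Subsingleton (HU (S.map (toAbF X)).X₁ 1 U) := subsingleton_HU_affine S.X₁ 0 hU
  exact exists_lift_of_subsingleton (S := S.map (toAbF X)) (toAbF_shortExact hS) s

end QCohLib
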