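import Groth.Agent.QCohLib.AbCoh

universe u
open CategoryTheory CategoryTheory.Limits TopologicalSpace Opposite AlgebraicGeometry

namespace QCohLib
variable {X : Scheme.{u}}

/-- The forgetful functor to abelian sheaves. -/
noncomputable abbrev toAbF (X : Scheme.{u}) : X.Modules ⥤ AbSh X.toTopCat :=
  SheafOfModules.toSheaf X.ringCatSheaf

noncomputable instance preservesColimitsOfShape_toSheaf (K : Type u) [SmallCategory K] :
    PreservesColimitsOfShape K
      (SheafOfModules.toSheaf.{u} X.ringCatSheaf) where
  preservesColimit {F} := by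
    let adj := PresheafOfModules.sheafificationAdjunction.{u} (𝟙 X.ringCatSheaf.obj)
    let L := PresheafOfModules.sheafification.{u} (𝟙 X.ringCatSheaf.obj)
    let R := SheafOfModules.forget.{u} X.ringCatSheaf ⋙ PresheafOfModules.restrictScalars (𝟙 _)
    let e : (F ⋙ R) ⋙ L ≅ F :=
      (Functor.associator _ _ _) ≪≫ Functor.isoWhiskerLeft F (asIso adj.counit) ≪≫ F.rightUnitor
    have : PreservesColimitsOfShape K (L ⋙ SheafOfModules.toSheaf.{u} X.ringCatSheaf) :=
      preservesColimitsOfShape_of_natIso (PresheafOfModules.sheafificationCompToSheaf _).symm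
    have : PreservesColimit ((F ⋙ R) ⋙ L) (SheafOfModules.toSheaf.{u} X.ringCatSheaf) :=
      preservesColimit_of_preserves_colimit_cocone (isColimitOfPreserves L (colimit.isColimit (F ⋙ R)))
        (IsColimit.ofIsoColimit
          (isColimitOfPreserves (L ⋙ SheafOfModules.toSheaf.{u} X.ringCatSheaf)
            (colimit.isColimit (F ⋙ R)))
          (Cocone.ext (Iso.refl _) (fun k => Category.comp_id _)))
    exact preservesColimit_of_iso_diagram _ e

noncomputable instance preservesColimitsOfSize_toAbF : PreservesColimitsOfSize.{u, u} (toAbF X) where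
  preservesColimitsOfShape {K} _ := preservesColimitsOfShape_toSheaf (X := X) K

noncomputable instance preservesFiniteColimits_toAbF : PreservesFiniteColimits (toAbF X) :=
  PreservesColimitsOfSize.preservesFiniteColimits _

noncomputable instance preservesFiniteLimits_toAbF : PreservesFiniteLimits (toAbF X) :=
  inferInstanceAs (PreservesFiniteLimits (SheafOfModules.toSheaf.{u} X.ringCatSheaf))

instance additive_toAbF : (toAbF X).Additive where

instance preservesZeroMorphisms_toAbF : (toAbF X).PreservesZeroMorphisms where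

theorem toAbF_shortExact {S : ShortComplex X.Modules} (hS : S.ShortExact) :
    (S.map (toAbF X)).ShortExact :=
  hS.map_of_exact _

theorem app_injective_of_mono {M N : X.Modules} (φ : M ⟶ N) [Mono φ] (U : X.Opens) :
    Function.Injective (φ.app U) := by
  intro a b h
  obtain ⟨a', rfl⟩ := zEquiv.surjective (show ((toAbF X).obj M).obj.obj (op U) from a)
  obtain ⟨b', rfl⟩ := zEquiv.surjective (show ((toAbF X).obj M).obj.obj (op U) from b)
  have := (cancel_mono ((toAbF X).map φ)).mp (zEquiv.injective
    ((zEquiv_comp a' ((toAbF X).map φ)).trans (h.trans (zEquiv_comp b' ((toAbF X).map φ)).symm)))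
  rw [this]

theorem exists_of_app_eq_zero {S : ShortComplex X.Modules} (hS : S.Exact) (hf : Mono S.f)
    {U : X.Opens} (x : Γ(S.X₂, U)) (hx : S.g.app U x = 0) :
    ∃ y : Γ(S.X₁, U), S.f.app U y = x := by
  have hmono : Mono ((toAbF X).map S.f) := inferInstance
  let T : ShortComplex (AbSh X.toTopCat) := S.map (toAbF X)
  have hT : T.Exact := hS.map (toAbF X)
  exact TopCat.Sheaf.sections_exact_of_left_exact (X := X.toTopCat) (S := T) hT hmono x hx

theorem map_map' (M : X.Modules) {W V U : X.Opens} (i : W ⟶ V) (j : V ⟶ U) (x : Γ(M, U)) :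
    M.presheaf.map i.op (M.presheaf.map j.op x) = M.presheaf.map (i ≫ j).op x := by
  rw [op_comp, Functor.map_comp]; rfl

theorem app_map {M N : X.Modules} (φ : M ⟶ N) {V U : X.Opens} (i : V ⟶ U) (x : Γ(M, U)) :
    φ.app V (M.presheaf.map i.op x) = N.presheaf.map i.op (φ.app U x) :=
  congr($(φ.mapPresheaf.naturality i.op) x)

end QCohLib
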