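import Groth.Agent.QCohLib.FinType

/-!
# Finite type quasi-coherent modules on affine opens, supports
-/

universe u
open CategoryTheory CategoryTheory.Limits TopologicalSpace Opposite AlgebraicGeometry

namespace QCohLib
variable {X : Scheme.{u}} {M : X.Modules}

theorem exists_basicOpen_nhd {U : X.Opens} (hU : IsAffineOpen U) {V : X.Opens} {p : X}
    (hp : p ∈ V) (hpU : p ∈ U) : ∃ f : Γ(X, U), X.basicOpen f ≤ V ∧ p ∈ X.basicOpen f :=
  hU.exists_basicOpen_le ⟨p, hp⟩ hpU

/-- Spanning global sections generate on an affine. -/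
theorem genOn_of_span [Coh.IsQCoh M] {U : X.Opens} (hU : IsAffineOpen U) {I : Type u} [Fintype I]
    (s : I → Γ(M, U)) (hs : Submodule.span Γ(X, U) (Set.range s) = ⊤) : GenOn M U s := by
  intro V hV t p hp
  obtain ⟨f, hfV, hpf⟩ := exists_basicOpen_nhd hU hp (hV hp)
  obtain ⟨n, m, hm⟩ := (localizingAt_of_isQCoh hU M f).exists_extend
    (M.presheaf.map (homOfLE hfV).op t)
  obtain ⟨a, ha⟩ := (Submodule.mem_span_range_iff_exists_fun Γ(X, U)).mp
    (hs.ge (Submodule.mem_top (x := m)))
  obtain ⟨u, hu⟩ := (isUnit_res f (le_refl (X.basicOpen f))).pow n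
  refine ⟨X.basicOpen f, hfV, X.basicOpen_le f, hpf,
    fun i => ↑u⁻¹ * X.presheaf.map (homOfLE (X.basicOpen_le f)).op (a i), ?_⟩
  have h1 := congr_arg (M.presheaf.map (homOfLE (X.basicOpen_le f)).op) ha
  rw [map_sum] at h1
  simp only [mul_smul, ← Finset.smul_sum]
  rw [← Finset.sum_congr rfl (fun i _ => map_smul' M (homOfLE (X.basicOpen_le f)) (a i) (s i)),
    h1, hm, ← hu, ← mul_smul, Units.inv_mul, one_smul]

/-- **Finite type quasi-coherent modules have finite modules of sections on affines.** -/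
theorem finite_of_isFT [Coh.IsQCoh M] (h : CohB1.IsFT M) {U : X.Opens} (hU : IsAffineOpen U) :
    Module.Finite Γ(X, U) Γ(M, U) := by
  classical
  choose O hpO n s hs using fun p : U => exists_genOn_of_isFT h p.1
  choose f hfO hpf using fun p : U => exists_basicOpen_nhd hU (hpO p) p.2
  have hm : ∀ (p : U) (i : ULift.{u} (Fin (n p))), ∃ (e : ℕ) (m : Γ(M, U)),
      M.presheaf.map (homOfLE (X.basicOpen_le (f p))).op m =
        (X.presheaf.map (homOfLE (X.basicOpen_le (f p))).op (f p)) ^ e •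
          M.presheaf.map (homOfLE (hfO p)).op (s p i) := fun p i =>
    (localizingAt_of_isQCoh hU M (f p)).exists_extend _
  choose e m hm using hm
  obtain ⟨t, ht⟩ := hU.isCompact.elim_finite_subcover (fun p : U => (X.basicOpen (f p) : Set X))
    (fun p => (X.basicOpen _).isOpen) fun q hq => Set.mem_iUnion.mpr ⟨⟨q, hq⟩, hpf ⟨q, hq⟩⟩
  let T : Finset Γ(M, U) := t.biUnion fun p => Finset.univ.image (m p)
  let N : Submodule Γ(X, U) Γ(M, U) := Submodule.span Γ(X, U) (T : Set Γ(M, U))
  refine ⟨⟨T, eq_top_iff.mpr fun x _ => ?_⟩⟩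
  let J : Ideal Γ(X, U) := N.colon {x}
  have key : ∀ q ∈ U, ∃ a ∈ J, q ∈ X.basicOpen a := by
    intro q hq
    obtain ⟨p, hpt, hqp⟩ := Set.mem_iUnion₂.mp (ht hq)
    obtain ⟨W, hW, hWp, hqW, c, hc⟩ := (hs p).mono (hfO p) (X.basicOpen (f p)) le_rfl
      (M.presheaf.map (homOfLE (X.basicOpen_le (f p))).op x) q hqp
    obtain ⟨g, hgW, hqg⟩ := exists_basicOpen_nhd hU hqW hq
    have hgp : X.basicOpen g ≤ X.basicOpen (f p) := hgW.trans hWp
    have hext : ∀ i, ∃ (e' : ℕ) (b : Γ(X, U)),
        X.presheaf.map (homOfLE (X.basicOpen_le g)).op b =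
          (X.presheaf.map (homOfLE (X.basicOpen_le g)).op g) ^ e' *
            ((X.presheaf.map (homOfLE hgW).op (c i)) *
              ↑(((isUnit_res (f p) hgp).pow (e p i)).unit⁻¹)) := fun i =>
      (@localizingAt_of_isQCoh _ _ hU (Coh.structureModule X) isQCoh_unit g).exists_extend _
    choose e' b hb using hext
    let E := Finset.univ.sup e'
    let y : Γ(M, U) := ∑ i, (g ^ (E - e' i) * b i) • m p i
    have hy : y ∈ N := Submodule.sum_mem _ fun i _ => Submodule.smul_mem _ _
      (Submodule.subset_span (Finset.mem_coe.mpr (Finset.mem_biUnion.mpr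
        ⟨p, hpt, Finset.mem_image_of_mem _ (Finset.mem_univ i)⟩)))
    have heq : M.presheaf.map (homOfLE (X.basicOpen_le g)).op (g ^ E • x - y) = 0 := by
      have hc' := congr_arg (M.presheaf.map (homOfLE hgW).op) hc
      rw [map_map', map_map', map_sum] at hc'
      rw [map_sub, sub_eq_zero, map_smul', map_sum]
      refine (congr_arg _ hc').trans ?_
      rw [Finset.smul_sum]
      refine Finset.sum_congr rfl fun i _ => ?_
      have hms : M.presheaf.map (homOfLE (X.basicOpen_le g)).op (m p i) =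
          (X.presheaf.map (homOfLE (X.basicOpen_le g)).op (f p)) ^ e p i •
            M.presheaf.map (homOfLE (hgp.trans (hfO p))).op (s p i) := by
        have h2 := congr_arg (M.presheaf.map (homOfLE hgp).op) (hm p i)
        rw [map_map', map_smul', map_pow, ringMap_map', map_map'] at h2
        exact h2
      rw [map_smul', map_smul', map_mul, map_pow, hb, hms, map_map', map_map', ← mul_smul,
        ← mul_smul]
      refine congr_arg₂ (· • ·) ?_ rfl
      set G := X.presheaf.map (homOfLE (X.basicOpen_le g)).op g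
      rw [map_pow, ← mul_assoc (G ^ (E - e' i)), ← pow_add,
        Nat.sub_add_cancel (Finset.le_sup (Finset.mem_univ i)), mul_assoc, mul_assoc]
      refine congr_arg _ ?_
      rw [IsUnit.val_inv_mul, mul_one]
    obtain ⟨k, hk⟩ := (localizingAt_of_isQCoh hU M g).eq_zero _ heq
    refine ⟨g ^ (k + E + 1), Submodule.mem_colon_singleton.mpr ?_, ?_⟩
    · have h3 : g ^ (k + E) • x = g ^ k • y := by
        simp only [homOfLE_refl, op_id, CategoryTheory.Functor.map_id] at hk
        change g ^ k • (g ^ E • x - y) = 0 at hk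
        rw [smul_sub, sub_eq_zero, ← mul_smul, ← pow_add] at hk
        exact hk
      rw [pow_succ', mul_smul, h3]
      exact N.smul_mem _ (N.smul_mem _ hy)
    · rwa [X.basicOpen_pow g (Nat.succ_pos _)]
  by_contra hx
  have hJ : J ≠ ⊤ := fun h => hx (by
    have := Submodule.mem_colon_singleton.mp ((Ideal.eq_top_iff_one J).mp h)
    rwa [one_smul] at this)
  obtain ⟨P, hP, hJP⟩ := J.exists_le_maximal hJ
  have := hP.isPrime
  let q : X := hU.fromSpec ⟨P, this⟩
  have hq : q ∈ U := hU.range_fromSpec.le ⟨_, rfl⟩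
  obtain ⟨a, ha, hqa⟩ := key q hq
  have : (⟨P, this⟩ : PrimeSpectrum Γ(X, U)) ∈ hU.fromSpec ⁻¹ᵁ X.basicOpen a := hqa
  rw [hU.fromSpec_preimage_basicOpen] at this
  exact this (hJP ha)

theorem exists_genOn_affine [Coh.IsQCoh M] (h : CohB1.IsFT M) {U : X.Opens} (hU : IsAffineOpen U) :
    ∃ (I : Type u) (_ : Fintype I) (s : I → Γ(M, U)), GenOn M U s := by
  obtain ⟨⟨T, hT⟩⟩ := finite_of_isFT h hU
  exact ⟨T, inferInstance, Subtype.val, genOn_of_span hU _ (by rwa [Subtype.range_coe])⟩

/-- Finite modules of sections give finite type. -/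
theorem isFT_of_finite [Coh.IsQCoh M]
    (h : ∀ p : X, ∃ U : X.Opens, IsAffineOpen U ∧ p ∈ U ∧ Module.Finite Γ(X, U) Γ(M, U)) :
    CohB1.IsFT M := by
  refine isFT_of_forall fun p => ?_
  obtain ⟨U, hU, hp, hfin⟩ := h p
  obtain ⟨n, s, hs⟩ := Module.Finite.exists_fin (R := Γ(X, U)) (M := Γ(M, U))
  exact ⟨U, hp, n, fun i => s i.down, genOn_of_span hU _ (by
    rw [← hs]; congr 1; ext x; simp)⟩

/-! ### Supports -/

theorem subsingleton_stalk_iff (M : X.Modules) (x : X) :
    Subsingleton (M.presheaf.stalk x) ↔ ∀ (U : X.Opens) (hx : x ∈ U) (t : Γ(M, U)),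
      ∃ (W : X.Opens) (hW : W ≤ U), x ∈ W ∧ M.presheaf.map (homOfLE hW).op t = 0 := by
  constructor
  · intro h U hx t
    obtain ⟨W, hxW, iU, iV, hW⟩ := M.presheaf.germ_eq x hx hx t 0 (Subsingleton.elim _ _)
    exact ⟨W, leOfHom iU, hxW, by rw [map_zero] at hW; exact hW⟩
  · intro h
    refine subsingleton_of_forall_eq 0 fun σ => ?_
    obtain ⟨U, hx, t, rfl⟩ := TopCat.Presheaf.exists_germ_eq M.presheaf (x := x) σ
    obtain ⟨W, hW, hxW, hz⟩ := h U hx t
    rw [← M.presheaf.germ_res_apply (homOfLE hW) x hxW t, hz, map_zero]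

/-- The support of a module of finite type is closed. -/
theorem isClosed_support (M : X.Modules) (h : CohB1.IsFT M) : IsClosed (CohB1.support M) := by
  rw [← isOpen_compl_iff, isOpen_iff_forall_mem_open]
  intro x hx
  have hsub : Subsingleton (M.presheaf.stalk x) := not_not.mp hx
  obtain ⟨U, hxU, n, s, hs⟩ := exists_genOn_of_isFT h x
  choose W hW hxW hz using fun i => (subsingleton_stalk_iff M x).mp hsub U hxU (s i)
  let W₀ : X.Opens := U ⊓ Finset.univ.inf W
  refine ⟨W₀, fun y hy => not_not.mpr ?_, W₀.isOpen, hxU, ?_⟩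
  · refine (subsingleton_stalk_iff M y).mpr fun V hyV t => ?_
    obtain ⟨W', hW', hW'U, hyW', c, hc⟩ := hs (V ⊓ W₀) (inf_le_right.trans inf_le_left)
      (M.presheaf.map (homOfLE inf_le_left).op t) y ⟨hyV, hy⟩
    refine ⟨W', hW'.trans inf_le_left, hyW', ?_⟩
    rw [map_map'] at hc
    refine hc.trans (Finset.sum_eq_zero fun i _ => ?_)
    have hle : W' ≤ W i := hW'.trans (inf_le_right.trans (inf_le_right.trans
      (Finset.inf_le (Finset.mem_univ i))))
    have := congr_arg (M.presheaf.map (homOfLE hle).op) (hz i)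
    rw [map_map', map_zero] at this
    exact (congr_arg _ this).trans (smul_zero _)
  · suffices ∀ t : Finset (ULift.{u} (Fin n)), x ∈ t.inf W from this _
    intro t
    induction t using Finset.cons_induction with
    | empty => exact Opens.mem_top x
    | cons a t _ ih => rw [Finset.inf_cons]; exact ⟨hxW a, ih⟩

/-- Supports of quasi-coherent modules are stable under specialisation. -/
theorem stableUnderSpecialization_support (M : X.Modules) [Coh.IsQCoh M] :
    StableUnderSpecialization (CohB1.support M) := by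
  intro x y hxy hx hy
  refine hx ((subsingleton_stalk_iff M x).mpr fun V hxV t => ?_)
  obtain ⟨U, hU, hyU, -⟩ := Opens.isBasis_iff_nbhd.mp X.isBasis_affineOpens (U := ⊤) (x := y) trivial
  obtain ⟨f, hfV, hxf⟩ := exists_basicOpen_nhd hU hxV (hxy.mem_open U.isOpen hyU)
  obtain ⟨n, m, hm⟩ := (localizingAt_of_isQCoh hU M f).exists_extend
    (M.presheaf.map (homOfLE hfV).op t)
  obtain ⟨W, hW, hyW, hz⟩ := (subsingleton_stalk_iff M y).mp hy U hyU m
  obtain ⟨u, hu⟩ := (isUnit_res f (le_refl (X.basicOpen f))).pow n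
  refine ⟨W ⊓ X.basicOpen f, inf_le_right.trans hfV, ⟨hxy.mem_open W.isOpen hyW, hxf⟩, ?_⟩
  have h0 : M.presheaf.map (homOfLE hfV).op t =
      (↑u⁻¹ : Γ(X, X.basicOpen f)) • M.presheaf.map (homOfLE (X.basicOpen_le f)).op m := by
    rw [hm, ← hu, ← mul_smul, Units.inv_mul, one_smul]
  have h1 := congr_arg
    (M.presheaf.map (homOfLE (inf_le_right : W ⊓ X.basicOpen f ≤ X.basicOpen f)).op) h0
  rw [map_map', map_smul', map_map'] at h1
  refine h1.trans ?_
  have h2 := congr_arg (M.presheaf.map (homOfLE (inf_le_left : W ⊓ X.basicOpen f ≤ W)).op) hz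
  rw [map_map', map_zero] at h2
  exact (congr_arg _ h2).trans (smul_zero _)

/-- A morphism bijective on affine opens is an isomorphism. -/
theorem isIso_of_bijective_affine {M N : X.Modules} (φ : M ⟶ N)
    (h : ∀ U : X.Opens, IsAffineOpen U → Function.Bijective (φ.app U)) : IsIso φ := by
  have hbij : ∀ V : X.Opens, Function.Bijective (φ.app V) := by
    intro V
    choose U hU hp hUV using fun p : V => Opens.isBasis_iff_nbhd.mp X.isBasis_affineOpens p.2
    have hcov : V ≤ iSup U := fun p hp' => Opens.mem_iSup.mpr ⟨⟨p, hp'⟩, hp ⟨p, hp'⟩⟩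
    have inj : Function.Injective (φ.app V) := fun a b hab => by
      refine TopCat.Sheaf.eq_of_locally_eq' ((toAbF X).obj M : TopCat.Sheaf AddCommGrpCat _)
        U V (fun p => homOfLE (hUV p)) hcov a b fun p => (h _ (hU p)).1 ?_
      exact (app_map φ _ a).trans ((congr_arg _ hab).trans (app_map φ _ b).symm)
    refine ⟨inj, fun s => ?_⟩
    choose t ht using fun p : V => (h _ (hU p)).2 (N.presheaf.map (homOfLE (hUV p)).op s)
    obtain ⟨g, hg, -⟩ := TopCat.Sheaf.existsUnique_gluing'
      ((toAbF X).obj M : TopCat.Sheaf AddCommGrpCat _) U V (fun p => homOfLE (hUV p)) hcov t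
      (fun p q => by
        choose U' hU' hr hU'le using fun r : ↥(U p ⊓ U q) =>
          Opens.isBasis_iff_nbhd.mp X.isBasis_affineOpens r.2
        refine TopCat.Sheaf.eq_of_locally_eq' ((toAbF X).obj M : TopCat.Sheaf AddCommGrpCat _)
          U' (U p ⊓ U q) (fun r => homOfLE (hU'le r))
          (fun r hr' => Opens.mem_iSup.mpr ⟨⟨r, hr'⟩, hr ⟨r, hr'⟩⟩) _ _ fun r => (h _ (hU' r)).1 ?_
        change φ.app (U' r) (M.presheaf.map _ (M.presheaf.map _ (t p))) =
          φ.app (U' r) (M.presheaf.map _ (M.presheaf.map _ (t q)))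
        rw [app_map, app_map, app_map, app_map, ht, ht, map_map', map_map', map_map', map_map']
        rfl)
    refine ⟨g, TopCat.Sheaf.eq_of_locally_eq' ((toAbF X).obj N : TopCat.Sheaf AddCommGrpCat _)
      U V (fun p => homOfLE (hUV p)) hcov _ _ fun p => ?_⟩
    exact (app_map φ _ g).symm.trans ((congr_arg _ (hg p)).trans (ht p))
  have : ∀ V, IsIso (((Scheme.Modules.toPresheaf X).map φ).app V) := fun V =>
    (ConcreteCategory.isIso_iff_bijective _).mpr (hbij V.unop)
  have : IsIso ((Scheme.Modules.toPresheaf X).map φ) := NatIso.isIso_of_isIso_app _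
  exact isIso_of_reflects_iso φ (Scheme.Modules.toPresheaf X)

end QCohLib
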