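import Groth.Agent.QCohLib.QcqsSections
import Groth.Agent.QCohLib.AbPush
import Mathlib.AlgebraicGeometry.Morphisms.Affine
import Mathlib.AlgebraicGeometry.Morphisms.QuasiSeparated

universe u
open CategoryTheory CategoryTheory.Limits TopologicalSpace Opposite AlgebraicGeometry

namespace QCohLib
variable {X Y : Scheme.{u}}

theorem push_smul (f : X ⟶ Y) (M : X.Modules) {V : Y.Opens} (r : Γ(Y, V))
    (x : Γ((Scheme.Modules.pushforward f).obj M, V)) :
    r • x = (show Γ((Scheme.Modules.pushforward f).obj M, V) from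
      (f.app V r • (show Γ(M, f ⁻¹ᵁ V) from x) : Γ(M, f ⁻¹ᵁ V))) := rfl

theorem app_res (f : X ⟶ Y) {U V : Y.Opens} (h : V ≤ U) (r : Γ(Y, U)) :
    f.app V (Y.presheaf.map (homOfLE h).op r) =
      X.presheaf.map (homOfLE (f.preimage_mono h)).op (f.app U r) := by
  exact congr($(f.naturality (homOfLE h).op) r)

/-- Direct images along quasi-compact quasi-separated morphisms are quasi-coherent. -/
theorem isQCoh_pushforward (f : X ⟶ Y) [QuasiCompact f] [QuasiSeparated f] (M : X.Modules)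
    [Coh.IsQCoh M] : Coh.IsQCoh ((Scheme.Modules.pushforward f).obj M) := by
  rw [isQCoh_iff_localizingAt]
  intro U hU g
  have h : LocPair M (f.app U g) (f ⁻¹ᵁ U) (f ⁻¹ᵁ Y.basicOpen g)
      (f.preimage_mono (Y.basicOpen_le g)) le_rfl :=
    (locPair_congr rfl (Scheme.preimage_basicOpen f g).symm).mp
      (localizingAt_of_qcqs M (QuasiCompact.isCompact_preimage (f := f) U U.isOpen hU.isCompact)
        (f.isQuasiSeparated_preimage hU.isQuasiSeparated) (f.app U g))
  refine ⟨fun s => ?_, fun t ht => ?_⟩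
  · obtain ⟨n, t, ht⟩ := h.exists_extend s
    refine ⟨n, t, ?_⟩
    rw [push_smul, map_pow, app_res]
    exact ht
  · obtain ⟨n, hn⟩ := h.eq_zero t ht
    refine ⟨n, ?_⟩
    rw [push_smul, map_pow, app_res]
    exact hn

/-- The affine opens, as a set. -/
def affSet (Y : Scheme.{u}) : Set (Opens Y.toTopCat) := {V | IsAffineOpen V}

theorem isBasis_affSet : Opens.IsBasis (affSet Y) := Y.isBasis_affineOpens

theorem acyclicAbove_of_isAffineHom (f : X ⟶ Y) [IsAffineHom f] (M : X.Modules) [Coh.IsQCoh M] :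
    AcyclicAbove f.base (affSet Y) 0 ((toAbF X).obj M) :=
  fun V hV n _ => subsingleton_HU_affine M n (U := f ⁻¹ᵁ V) (IsAffineOpen.preimage hV f)

theorem isZero_RpushAb (f : X ⟶ Y) [IsAffineHom f] (M : X.Modules) [Coh.IsQCoh M] (i : ℕ)
    (hi : 0 < i) : IsZero ((Coh.RpushAb f i).obj (Coh.toAb M)) :=
  isZero_rightDerived (f := f.base) isBasis_affSet (acyclicAbove_of_isAffineHom f M) hi

/-- Cohomology along an affine morphism. -/
theorem nonempty_HU_push (f : X ⟶ Y) [IsAffineHom f] (M : X.Modules) [Coh.IsQCoh M] (i : ℕ)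
    (V : Y.Opens) : Nonempty (HU ((toAbF Y).obj ((Scheme.Modules.pushforward f).obj M)) i V ≃+
      HU ((toAbF X).obj M) i (f ⁻¹ᵁ V)) :=
  nonempty_pfEquiv (f := f.base) isBasis_affSet i _ (acyclicAbove_of_isAffineHom f M) V

theorem nonempty_HH_push (f : X ⟶ Y) [IsAffineHom f] (M : X.Modules) [Coh.IsQCoh M] (i : ℕ) :
    Nonempty (Coh.HH X M i ≃+ Coh.HH Y ((Coh.push f).obj M) i) := by
  obtain ⟨e⟩ := nonempty_HU_push f M i ⊤
  exact ⟨(hEquiv ((toAbF X).obj M) i).trans (e.symm.trans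
    (hEquiv ((toAbF Y).obj ((Coh.push f).obj M)) i).symm)⟩

end QCohLib
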