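import Groth.Agent.QCohLib.Vanishing

universe w w' u
open CategoryTheory CategoryTheory.Limits TopologicalSpace Opposite AlgebraicGeometry

namespace QCohLib
variable {X : Scheme.{u}}

theorem isQCoh_of_iso {M N : X.Modules} (e : M ≅ N) [Coh.IsQCoh M] : Coh.IsQCoh N :=
  (SheafOfModules.isQuasicoherent X.ringCatSheaf).prop_of_iso e ‹_›

theorem map_eq_zero_of_zero {S : ShortComplex X.Modules} {U : X.Opens} (y : Γ(S.X₁, U)) :
    S.g.app U (S.f.app U y) = 0 := by
  change ((S.f ≫ S.g).app U) y = 0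
  rw [S.zero]
  rfl

/-- Quasi-coherent modules are closed under kernels. -/
theorem isQCoh_of_exact_left {S : ShortComplex X.Modules} (hS : S.Exact) (hf : Mono S.f)
    [h2 : Coh.IsQCoh S.X₂] [h3 : Coh.IsQCoh S.X₃] : Coh.IsQCoh S.X₁ := by
  rw [isQCoh_iff_localizingAt]
  intro U hU f
  have H2 := localizingAt_of_isQCoh hU S.X₂ f
  have H3 := localizingAt_of_isQCoh hU S.X₃ f
  refine ⟨fun s => ?_, fun t ht => ?_⟩
  · obtain ⟨n, t, ht⟩ := H2.exists_extend (S.f.app _ s)
    have h0' : S.X₃.presheaf.map (homOfLE (X.basicOpen_le f)).op (S.g.app U t) = 0 := by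
      rw [← app_map, ht, Scheme.Modules.Hom.app_smul, map_eq_zero_of_zero, smul_zero]
    obtain ⟨m, hm⟩ := H3.eq_zero _ h0'
    rw [← Scheme.Modules.Hom.app_smul] at hm
    obtain ⟨y, hy⟩ := exists_of_app_eq_zero hS hf _ hm
    refine ⟨m + n, y, app_injective_of_mono S.f _ ?_⟩
    rw [app_map, hy, Scheme.Modules.map_smul, ht, Scheme.Modules.Hom.app_smul, pow_add, mul_smul,
      map_pow, ringMap_map', homOfLE_comp]
  · obtain ⟨m, hm⟩ := H2.eq_zero (S.f.app U t) (by rw [← app_map, ht, map_zero])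
    refine ⟨m, app_injective_of_mono S.f _ ?_⟩
    rw [Scheme.Modules.Hom.app_smul, hm, map_zero]

theorem isQCoh_kernel {M N : X.Modules} (φ : M ⟶ N) [Coh.IsQCoh M] [Coh.IsQCoh N] :
    Coh.IsQCoh (kernel φ) :=
  isQCoh_of_exact_left (S := ShortComplex.mk _ _ (kernel.condition φ))
    (ShortComplex.exact_of_f_is_kernel _ (kernelIsKernel φ)) inferInstance (h2 := ‹_›) (h3 := ‹_›)

/-- Colimits of quasi-coherent modules on an affine spectrum. -/
theorem isQCoh_of_isColimit_spec {R : CommRingCat.{u}} {K : Type w} [Category.{w'} K]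
    [HasColimitsOfShape K (ModuleCat.{u} R)] {D : K ⥤ (Spec R).Modules}
    (h : ∀ k, Coh.IsQCoh (D.obj k)) {c : Cocone D} (hc : IsColimit c) : Coh.IsQCoh c.pt := by
  let D' := D ⋙ moduleSpecΓFunctor (R := R)
  have : ∀ k, IsIso ((Functor.whiskerLeft D (tilde.adjunction (R := R)).counit).app k) := fun k =>
    @Scheme.Modules.isIso_fromTildeΓ_of_isQuasicoherent _ (D.obj k) (h k)
  let e : D' ⋙ tilde.functor R ≅ D :=
    NatIso.ofComponents (fun k => @asIso _ _ _ _ _ (this k))
      (fun f => (tilde.adjunction (R := R)).counit.naturality (D.map f))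
  have hc' := (IsColimit.precomposeHomEquiv e.symm _).symm
    (isColimitOfPreserves (tilde.functor R) (colimit.isColimit D'))
  exact (SheafOfModules.isQuasicoherent (Spec R).ringCatSheaf).prop_of_iso
    (hc'.coconePointUniqueUpToIso hc) (inferInstanceAs (tilde (colimit D')).IsQuasicoherent)

/-- Quasi-coherent modules are closed under colimits. -/
theorem isQCoh_of_isColimit {K : Type w} [Category.{w'} K]
    (hK : ∀ R : CommRingCat.{u}, HasColimitsOfShape K (ModuleCat.{u} R)) {D : K ⥤ X.Modules}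
    (h : ∀ k, Coh.IsQCoh (D.obj k)) {c : Cocone D} (hc : IsColimit c) : Coh.IsQCoh c.pt := by
  refine isQCoh_of_cover c.pt (fun U : X.affineOpens => U.1) iSup_affineOpens_val fun U => ?_
  apply isQCoh_restrict_ι_of_fromSpec U.2
  have := hK Γ(X, U.1)
  have : IsOpenImmersion U.2.fromSpec := U.2.isOpenImmersion_fromSpec
  exact isQCoh_of_isColimit_spec
    (fun k => @Scheme.Modules.isQuasicoherent_restrictFunctor _ _ U.2.fromSpec _ (D.obj k) (h k))
    (isColimitOfPreserves (Scheme.Modules.restrictFunctor U.2.fromSpec) hc)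

theorem isQCoh_colimit {K : Type u} [Category.{u} K] (D : K ⥤ X.Modules)
    (h : ∀ k, Coh.IsQCoh (D.obj k)) : Coh.IsQCoh (colimit D) :=
  isQCoh_of_isColimit (fun _ => inferInstance) h (colimit.isColimit D)

theorem isQCoh_sigma {ι : Type u} (M : ι → X.Modules) (h : ∀ i, Coh.IsQCoh (M i)) :
    Coh.IsQCoh (∐ M) :=
  isQCoh_of_isColimit (fun _ => inferInstance) (fun k => h k.as) (colimit.isColimit _)

/-- Quasi-coherent modules are closed under cokernels. -/
theorem isQCoh_cokernel {M N : X.Modules} (φ : M ⟶ N) [h1 : Coh.IsQCoh M] [h2 : Coh.IsQCoh N] :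
    Coh.IsQCoh (cokernel φ) :=
  isQCoh_of_isColimit (fun _ => inferInstance)
    (fun k => by cases k; exacts [h1, h2]) (colimit.isColimit (parallelPair φ 0))

theorem isQCoh_of_exact_right {S : ShortComplex X.Modules} (hS : S.Exact) (hg : Epi S.g)
    [Coh.IsQCoh S.X₁] [Coh.IsQCoh S.X₂] : Coh.IsQCoh S.X₃ :=
  have : Coh.IsQCoh (Cofork.ofπ (cokernel.π S.f) (by simp : S.f ≫ _ = 0 ≫ _)).pt := isQCoh_cokernel S.f
  isQCoh_of_iso ((cokernelIsCokernel S.f).coconePointUniqueUpToIso hS.gIsCokernel)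

theorem isQCoh_image {M N : X.Modules} (φ : M ⟶ N) [Coh.IsQCoh M] [Coh.IsQCoh N] :
    Coh.IsQCoh (Abelian.image φ) :=
  have := isQCoh_cokernel φ
  isQCoh_kernel (cokernel.π φ)

/-- Quasi-coherent modules are closed under extensions. -/
theorem isQCoh_of_shortExact {S : ShortComplex X.Modules} (hS : S.ShortExact)
    [h1 : Coh.IsQCoh S.X₁] [h3 : Coh.IsQCoh S.X₃] : Coh.IsQCoh S.X₂ := by
  rw [isQCoh_iff_localizingAt]
  intro U hU f
  have H1 := localizingAt_of_isQCoh hU S.X₁ f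
  have H3 := localizingAt_of_isQCoh hU S.X₃ f
  refine ⟨fun s => ?_, fun t ht => ?_⟩
  · obtain ⟨n, q, hq⟩ := H3.exists_extend (S.g.app _ s)
    obtain ⟨m, hm⟩ := app_surjective_of_affine hS hU q
    have h0' : S.g.app (X.basicOpen f) (S.X₂.presheaf.map (homOfLE (X.basicOpen_le f)).op m -
        (X.presheaf.map (homOfLE (X.basicOpen_le f)).op f) ^ n • s) = 0 := by
      rw [map_sub, app_map, hm, hq, Scheme.Modules.Hom.app_smul, sub_self]
    obtain ⟨k, hk⟩ := exists_of_app_eq_zero hS.exact hS.mono_f _ h0'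
    obtain ⟨l, y, hy⟩ := H1.exists_extend k
    refine ⟨l + n, (X.presheaf.map (homOfLE le_rfl).op f) ^ l • m - S.f.app U y, ?_⟩
    rw [map_sub, ← app_map, hy, Scheme.Modules.Hom.app_smul, hk, Scheme.Modules.map_smul, map_pow,
      ringMap_map', homOfLE_comp, ← smul_sub, sub_sub_cancel, pow_add, mul_smul]
  · have h0' : S.X₃.presheaf.map (homOfLE (X.basicOpen_le f)).op (S.g.app U t) = 0 := by
      rw [← app_map, ht, map_zero]
    obtain ⟨n, hn⟩ := H3.eq_zero _ h0'
    rw [← Scheme.Modules.Hom.app_smul] at hn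
    obtain ⟨k, hk⟩ := exists_of_app_eq_zero hS.exact hS.mono_f _ hn
    have := hS.mono_f
    obtain ⟨m, hm⟩ := H1.eq_zero k (app_injective_of_mono S.f _ (by
      rw [app_map, hk, Scheme.Modules.map_smul, ht, smul_zero, map_zero]))
    refine ⟨m + n, ?_⟩
    rw [pow_add, mul_smul, ← hk, ← Scheme.Modules.Hom.app_smul, hm, map_zero]

theorem isQCoh_biprod (M N : X.Modules) [Coh.IsQCoh M] [Coh.IsQCoh N] : Coh.IsQCoh (M ⊞ N) :=
  isQCoh_of_shortExact (S := ShortComplex.mk (biprod.inl : M ⟶ M ⊞ N) biprod.snd biprod.inl_snd)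
    (ShortComplex.Splitting.ofHasBinaryBiproduct M N).shortExact (h1 := ‹_›) (h3 := ‹_›)

theorem isQCoh_unit : Coh.IsQCoh (Coh.structureModule X) := by
  refine isQCoh_of_cover _ (fun U : X.affineOpens => U.1) iSup_affineOpens_val fun U => ?_
  apply isQCoh_restrict_ι_of_fromSpec U.2
  have : IsOpenImmersion U.2.fromSpec := U.2.isOpenImmersion_fromSpec
  exact (SheafOfModules.isQuasicoherent (Spec Γ(X, U.1)).ringCatSheaf).prop_of_iso
    (tildeSelf ≪≫ (Scheme.Modules.restrictUnitIso U.2.fromSpec).symm)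
    (inferInstanceAs (tilde (ModuleCat.of Γ(X, U.1) Γ(X, U.1))).IsQuasicoherent)

end QCohLib
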