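import Groth.Agent.QCohLib.Vanishing

universe u
open CategoryTheory CategoryTheory.Limits TopologicalSpace Opposite AlgebraicGeometry

namespace QCohLib
variable {X : Scheme.{u}}

/-- Above the number of affines, with affine intersections, cohomology of a union vanishes. -/
theorem subsingleton_HU_finsetSup (M : X.Modules) [Coh.IsQCoh M]
    {ι : Type*} (s : Finset ι) (U : ι → X.Opens)
    (hU : ∀ t : Finset ι, t.Nonempty → t ⊆ s → IsAffineOpen (t.inf U))
    (n : ℕ) (hn : s.card ≤ n) : Subsingleton (HU ((toAbF X).obj M) n (s.sup U)) := by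
  classical
  induction s using Finset.induction generalizing U n with
  | empty => rw [Finset.sup_empty]; infer_instance
  | @insert a s ha ih =>
    rw [Finset.card_insert_of_notMem ha] at hn
    obtain ⟨m, rfl⟩ : ∃ m, n = m + 1 := ⟨n - 1, by omega⟩
    rw [Finset.sup_insert]
    have hA : IsAffineOpen (U a) := by
      have := hU {a} (Finset.singleton_nonempty a)
        (Finset.singleton_subset_iff.mpr (Finset.mem_insert_self a s))
      rwa [Finset.inf_singleton] at this
    have h1 := subsingleton_HU_affine M m hA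
    have h2 := ih U (fun t h1 h2 => hU t h1 (h2.trans (Finset.subset_insert a s))) (m + 1) (by omega)
    have h3 := ih (fun i => U a ⊓ U i) (fun t h1 h2 => by
      have := hU (insert a t) (Finset.insert_nonempty a t) (Finset.insert_subset_insert a h2)
      rw [Finset.inf_insert] at this
      rw [show (fun i => U a ⊓ U i) = (fun _ => U a) ⊓ U from rfl, Finset.inf_inf,
        Finset.inf_const h1]
      exact this) m (by omega)
    rw [← Finset.sup_inf_distrib_left] at h3
    exact subsingleton_sup'

/-- `W` has bounded quasi-coherent cohomology. -/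
def Bounded (W : X.Opens) : Prop :=
  ∃ d : ℕ, ∀ M : X.Modules, Coh.IsQCoh M → ∀ n, d ≤ n → Subsingleton (HU ((toAbF X).obj M) n W)

theorem bounded_of_le_affine {W V : X.Opens} (hV : IsAffineOpen V) (hWV : W ≤ V)
    (hW : IsCompact (W : Set X)) : Bounded W := by
  classical
  choose f hf hpf using fun p : (W : Set X) => hV.exists_basicOpen_le ⟨p.1, p.2⟩ (hWV p.2)
  obtain ⟨t, ht⟩ := hW.elim_finite_subcover (fun p => (X.basicOpen (f p) : Set X))
    (fun p => (X.basicOpen (f p)).isOpen) fun p hp => Set.mem_iUnion.mpr ⟨⟨p, hp⟩, hpf ⟨p, hp⟩⟩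
  have e : t.sup (fun p => X.basicOpen (f p)) = W := by
    refine le_antisymm (Finset.sup_le fun p _ => hf p) fun p hp => ?_
    obtain ⟨i, hi, hp'⟩ := Set.mem_iUnion₂.mp (ht hp)
    exact Finset.le_sup (f := fun p => X.basicOpen (f p)) hi hp'
  refine ⟨t.card, fun M hM n hn => e ▸ @subsingleton_HU_finsetSup X M hM _ t _ (fun s hs _ => ?_) n hn⟩
  have h : ∀ s : Finset (W : Set X), s.Nonempty →
      ∃ g : Γ(X, V), s.inf (fun p => X.basicOpen (f p)) = X.basicOpen g := by
    intro s hs
    induction hs using Finset.Nonempty.cons_induction with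
    | singleton a => exact ⟨f a, by simp⟩
    | cons a s ha _ ih =>
      obtain ⟨g, hg⟩ := ih
      exact ⟨f a * g, by rw [Finset.inf_cons, hg, X.basicOpen_mul]⟩
  obtain ⟨g, hg⟩ := h s hs
  rw [hg]
  exact hV.basicOpen g

theorem bounded_of_isCompact [QuasiSeparatedSpace X] (W : X.Opens) (hW : IsCompact (W : Set X)) :
    Bounded W := by
  refine compact_open_induction_on W hW ⟨0, fun M _ n _ => inferInstance⟩ ?_
  rintro S hS ⟨V, hV⟩ ⟨d, hd⟩
  obtain ⟨e, he⟩ := bounded_of_le_affine (W := S ⊓ V) hV inf_le_right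
    (QuasiSeparatedSpace.inter_isCompact _ _ S.isOpen hS V.isOpen hV.isCompact)
  refine ⟨max d e + 1, fun M hM n hn => ?_⟩
  obtain ⟨m, rfl⟩ : ∃ m, n = m + 1 := ⟨n - 1, by omega⟩
  have h1 := hd M hM (m + 1) (by omega)
  have h2 := @subsingleton_HU_affine X M hM m V hV
  have h3 := he M hM m (by omega)
  exact subsingleton_sup'

end QCohLib
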