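import Groth.Agent.QCohLib.Coherent
import Mathlib.RingTheory.Support

/-!
# Supports and extension by direct image
-/

universe u
open CategoryTheory CategoryTheory.Limits TopologicalSpace Opposite AlgebraicGeometry

namespace QCohLib
variable {X : Scheme.{u}}

theorem mem_support_iff {M : X.Modules} [Coh.IsQCoh M] {U : X.Opens}
    (hU : IsAffineOpen U) {x : X} (hx : x ∈ U) :
    hU.primeIdealOf ⟨x, hx⟩ ∈ Module.support Γ(X, U) Γ(M, U) ↔ x ∈ CohB1.support M := by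
  have hb : ∀ r : Γ(X, U), x ∈ X.basicOpen r ↔ r ∉ (hU.primeIdealOf ⟨x, hx⟩).asIdeal := fun r => by
    have e := hU.fromSpec_primeIdealOf ⟨x, hx⟩
    have h' : hU.primeIdealOf ⟨x, hx⟩ ∈ hU.fromSpec ⁻¹ᵁ X.basicOpen r ↔ x ∈ X.basicOpen r := by
      change hU.fromSpec (hU.primeIdealOf ⟨x, hx⟩) ∈ X.basicOpen r ↔ _
      rw [e]
    rw [← h', hU.fromSpec_preimage_basicOpen]
    rfl
  rw [← not_iff_not, Module.notMem_support_iff']
  refine Iff.trans ?_ (not_not.symm : Subsingleton (M.presheaf.stalk x) ↔ x ∉ CohB1.support M)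
  rw [subsingleton_stalk_iff]
  constructor
  · intro h V hxV t
    obtain ⟨f, hfV, hxf⟩ := exists_basicOpen_nhd hU hxV hx
    obtain ⟨n, m, hm⟩ := (localizingAt_of_isQCoh hU M f).exists_extend
      (M.presheaf.map (homOfLE hfV).op t)
    obtain ⟨r, hr, hrm⟩ := h m
    let W := X.basicOpen f ⊓ X.basicOpen r
    refine ⟨W, inf_le_left.trans hfV, ⟨hxf, (hb r).mpr hr⟩, ?_⟩
    have h1 := congr_arg (M.presheaf.map (homOfLE (inf_le_left : W ≤ X.basicOpen f)).op) hm
    rw [map_smul', map_map', map_map', map_pow, ringMap_map'] at h1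
    have h2 := congr_arg (M.presheaf.map (homOfLE ((inf_le_left : W ≤ _).trans (X.basicOpen_le f))).op) hrm
    rw [map_smul', map_zero] at h2
    obtain ⟨u, hu⟩ := isUnit_res r (inf_le_right : W ≤ X.basicOpen r)
    obtain ⟨v, hv⟩ := (isUnit_res f (inf_le_left : W ≤ X.basicOpen f)).pow n
    have h3 : M.presheaf.map (homOfLE ((inf_le_left : W ≤ _).trans (X.basicOpen_le f))).op m = 0 := by
      have := congr_arg (fun z => (↑u⁻¹ : Γ(X, W)) • z) h2
      simpa only [← mul_smul, ← hu, Units.inv_mul, one_smul, smul_zero] using this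
    have h4 : (↑v : Γ(X, W)) •
        M.presheaf.map (homOfLE ((inf_le_left : W ≤ _).trans hfV)).op t = 0 := by
      rw [hv]
      exact h1.symm.trans h3
    have := congr_arg (fun z => (↑v⁻¹ : Γ(X, W)) • z) h4
    simpa only [← mul_smul, Units.inv_mul, one_smul, smul_zero] using this
  · intro h m
    obtain ⟨W, hW, hxW, hz⟩ := h U hx m
    obtain ⟨g, hgW, hxg⟩ := exists_basicOpen_nhd hU hxW hx
    have h1 := congr_arg (M.presheaf.map (homOfLE hgW).op) hz
    rw [map_map', map_zero] at h1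
    obtain ⟨n, hn⟩ := (localizingAt_of_isQCoh hU M g).eq_zero m h1
    refine ⟨g ^ n, fun hmem => (hb g).mp hxg
      ((hU.primeIdealOf ⟨x, hx⟩).2.mem_of_pow_mem n hmem), ?_⟩
    simpa using hn

theorem genOn_image {M : X.Modules} {U : X.Opens} {W : (U : Scheme).Opens} {I : Type u} [Fintype I]
    {s : I → Γ(M, U.ι ''ᵁ W)} (hs : GenOn (M.restrict U.ι) W s) : GenOn M (U.ι ''ᵁ W) s := by
  intro V hV t p hp
  obtain ⟨q, hq, rfl⟩ := hV hp
  have hle : U.ι ''ᵁ (U.ι ⁻¹ᵁ V) ≤ V := U.ι.image_preimage_le V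
  obtain ⟨W', hW', hW'W, hqW', c, hc⟩ := hs (U.ι ⁻¹ᵁ V)
    ((U.ι.preimage_mono hV).trans (U.ι.preimage_image_eq W).le)
    (M.presheaf.map (homOfLE hle).op t) q hp
  refine ⟨U.ι ''ᵁ W', (U.ι.image_mono hW').trans hle, U.ι.image_mono hW'W, ⟨q, hqW', rfl⟩,
    fun i => (U.ι.appIso W').inv (c i), ?_⟩
  exact (map_map' M _ _ t).symm.trans hc

theorem isFT_of_cover (M : X.Modules) {ι : Type u} (U : ι → X.Opens) (hU : ⨆ i, U i = ⊤)
    (h : ∀ i, CohB1.IsFT (M.restrict (U i).ι)) : CohB1.IsFT M := by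
  refine isFT_of_forall fun p => ?_
  obtain ⟨i, hi⟩ := Opens.mem_iSup.mp (hU.ge (Opens.mem_top p))
  obtain ⟨W, hW, n, s, hs⟩ := exists_genOn_of_isFT (h i) ⟨p, hi⟩
  exact ⟨(U i).ι ''ᵁ W, ⟨⟨p, hi⟩, hW, rfl⟩, n, s, genOn_image hs⟩

theorem isQCoh_of_isZero {M : X.Modules} (h : IsZero M) : Coh.IsQCoh M := by
  have := isQCoh_unit (X := X)
  have : Coh.IsQCoh (cokernel (𝟙 (Coh.structureModule X))) := isQCoh_cokernel _
  refine isQCoh_of_iso (M := cokernel (𝟙 (Coh.structureModule X))) (IsZero.iso ?_ h)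
  rw [IsZero.iff_id_eq_zero, ← cancel_epi (cokernel.π (𝟙 (Coh.structureModule X))), comp_zero,
    Category.comp_id]
  exact (Category.id_comp _).symm.trans (cokernel.condition _)

theorem isFT_of_isZero {M : X.Modules} (h : IsZero M) : CohB1.IsFT M := by
  refine isFT_of_genTop (I := PUnit.{u + 1}) (s := fun _ => 0) fun V t p hp =>
    ⟨V, le_rfl, hp, fun _ => 0, ?_⟩
  have ht : t = 0 := congr_arg (fun φ : M ⟶ M => φ.app V t) ((IsZero.iff_id_eq_zero M).mp h)
  subst ht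
  simp

/-- Direct image from an open of a coherent module with support closed in the whole space. -/
theorem isCoh_push_of_support (U : X.Opens) (T : Set X) (hT : IsClosed T) (hTU : T ⊆ (U : Set X))
    (F : (↑U : Scheme.{u}).Modules) (hF : Coh.IsCoh F)
    (hs : ∀ x : ↥U, x ∈ CohB1.support F → (x : X) ∈ T) :
    Coh.IsCoh ((Coh.push U.ι).obj F) := by
  let V₀ : X.Opens := ⟨Tᶜ, hT.isOpen_compl⟩
  let P := (Coh.push U.ι).obj F
  let C : ULift.{u} Bool → X.Opens := fun b => cond b.down U V₀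
  have hC : ⨆ b, C b = ⊤ := eq_top_iff.mpr fun p _ => by
    by_cases hp : p ∈ U
    · exact Opens.mem_iSup.mpr ⟨⟨true⟩, hp⟩
    · exact Opens.mem_iSup.mpr ⟨⟨false⟩, fun h => hp (hTU h)⟩
  have hU : (P.restrict U.ι) ≅ F := (Scheme.Modules.restrictFunctorAdjCounitIso U.ι).app F
  have hz : IsZero (P.restrict V₀.ι) := by
    rw [IsZero.iff_id_eq_zero]
    apply Scheme.Modules.hom_ext
    intro W
    refine ConcreteCategory.hom_ext _ _ fun t => ?_
    have ht : ∀ (W' : (↑U : Scheme).Opens), (∀ q ∈ W', (U.ι q : X) ∉ T) →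
        ∀ t : Γ(F, W'), t = 0 := fun W' hW' t =>
      TopCat.Presheaf.section_ext ((toAbF (↑U : Scheme)).obj F : TopCat.Sheaf AddCommGrpCat _)
        W' t 0 fun q hq => (not_not.mp fun h => hW' q hq (hs q h) :
          Subsingleton (F.presheaf.stalk q)).elim _ _
    exact (ht (U.ι ⁻¹ᵁ (V₀.ι ''ᵁ W)) (fun q hq => V₀.ι_image_le W hq) t).trans
      (ht (U.ι ⁻¹ᵁ (V₀.ι ''ᵁ W)) (fun q hq => V₀.ι_image_le W hq) _).symm
  have h1 : ∀ b, Coh.IsCoh (P.restrict (C b).ι) := fun b => by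
    obtain ⟨_ | _⟩ := b
    · exact ⟨isQCoh_of_isZero hz, isFT_of_isZero hz⟩
    · exact isCoh_of_iso hU.symm hF
  exact ⟨isQCoh_of_cover P C hC fun b => (h1 b).1, isFT_of_cover P C hC fun b => (h1 b).2⟩

end QCohLib
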