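import Groth.Agent.QCohLib.LocSub
import Mathlib.Order.Zorn

/-!
# Extension of finite type submodules from an open
-/

universe u
open CategoryTheory CategoryTheory.Limits TopologicalSpace Opposite AlgebraicGeometry

namespace QCohLib
namespace LocSub
variable {X : Scheme.{u}} {F : X.Modules}

/-- `S` imposes no condition outside `V`. -/
def Canon (S : LocSub F) (V : X.Opens) : Prop :=
  ∀ (W : X.Opens) (a : Γ(F, W)),
    S.mem (W ⊓ V) (F.presheaf.map (homOfLE inf_le_left).op a) → S.mem W a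

/-- `S` is of finite type on `V`. -/
def FTBelow (S : LocSub F) (V : X.Opens) : Prop :=
  ∀ p : X, p ∈ V → ∃ (U : X.Opens), U ≤ V ∧ p ∈ U ∧ ∃ (n : ℕ) (s : ULift.{u} (Fin n) → Γ(F, U)),
    (∀ i, S.mem U (s i)) ∧ ∀ W ≤ U, ∀ a : Γ(F, W), S.mem W a → (span F U s).mem W a

/-- Denominators may be cleared inside `S`. -/
theorem exists_pow_smul_mem [Coh.IsQCoh F]
    (S : LocSub F) {V : X.Opens} (hc : Canon S V) (hft : FTBelow S V)
    {W : X.Opens} (hW : IsAffineOpen W) (hWV : IsCompact ((W ⊓ V : X.Opens) : Set X)) (g : Γ(X, W)) (a : Γ(F, W))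
    (ha : S.mem (X.basicOpen g ⊓ V)
      (F.presheaf.map (homOfLE (inf_le_left.trans (X.basicOpen_le g))).op a)) :
    ∃ k : ℕ, S.mem W (g ^ k • a) := by
  classical
  choose U hUV hpU n s hs hgen using fun q : ↥(W ⊓ V) => hft q.1 q.2.2
  choose h hhU hqh using fun q : ↥(W ⊓ V) => exists_basicOpen_nhd hW (hpU q) q.2.1
  obtain ⟨t, ht⟩ := hWV.elim_finite_subcover
    (fun q : ↥(W ⊓ V) => (X.basicOpen (h q) : Set X)) (fun q => (X.basicOpen _).isOpen)
    fun q hq => Set.mem_iUnion.mpr ⟨⟨q, hq⟩, hqh ⟨q, hq⟩⟩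
  have key : ∀ q : ↥(W ⊓ V), ∃ k : ℕ, S.mem (X.basicOpen (h q))
      ((X.presheaf.map (homOfLE (X.basicOpen_le (h q))).op g) ^ k •
        F.presheaf.map (homOfLE (X.basicOpen_le (h q))).op a) := by
    intro q
    let D := X.basicOpen (h q)
    have hD : IsAffineOpen D := hW.basicOpen (h q)
    let gD : Γ(X, D) := X.presheaf.map (homOfLE (X.basicOpen_le (h q))).op g
    let aD : Γ(F, D) := F.presheaf.map (homOfLE (X.basicOpen_le (h q))).op a
    let D' := X.basicOpen gD
    have hD' : IsAffineOpen D' := hD.basicOpen gD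
    have hD'g : D' ≤ X.basicOpen g := by
      rw [show D' = D ⊓ X.basicOpen g from Scheme.basicOpen_res _ _ _]
      exact inf_le_right
    have hD'D : D' ≤ D := X.basicOpen_le gD
    have hmem : S.mem D' (F.presheaf.map (homOfLE hD'D).op aD) := by
      have h1 := S.res (le_inf hD'g ((hD'D.trans (hhU q)).trans (hUV q))) ha
      rw [map_map'] at h1 ⊢
      exact h1
    obtain ⟨c, hc⟩ := exists_eq_sum hD' (hD'D.trans (hhU q)) (hgen q D' (hD'D.trans (hhU q)) _ hmem)
    have hext : ∀ i, ∃ (e : ℕ) (b : Γ(X, D)),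
        X.presheaf.map (homOfLE hD'D).op b = (X.presheaf.map (homOfLE hD'D).op gD) ^ e * c i :=
      fun i => (@localizingAt_of_isQCoh _ _ hD (Coh.structureModule X) isQCoh_unit gD).exists_extend _
    choose e b hb using hext
    let E := Finset.univ.sup e
    let y : Γ(F, D) := ∑ i, (gD ^ (E - e i) * b i) • F.presheaf.map (homOfLE (hhU q)).op (s q i)
    have hy : S.mem D y := S.sum _ _ fun i _ => S.smul _ (S.res _ (hs q i))
    have heq : F.presheaf.map (homOfLE hD'D).op (gD ^ E • aD - y) = 0 := by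
      rw [map_sub, sub_eq_zero, map_smul', map_sum, hc, Finset.smul_sum]
      refine Finset.sum_congr rfl fun i _ => ?_
      rw [map_smul', map_map', map_mul, map_pow, map_pow, hb, ← mul_smul,
        ← mul_assoc (X.presheaf.map (homOfLE hD'D).op gD ^ (E - e i)), ← pow_add,
        Nat.sub_add_cancel (Finset.le_sup (Finset.mem_univ i))]
      rfl
    obtain ⟨k, hk⟩ := (localizingAt_of_isQCoh hD F gD).eq_zero _ heq
    refine ⟨k + E, ?_⟩
    have h3 : gD ^ (k + E) • aD = gD ^ k • y := by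
      simp only [homOfLE_refl, op_id, CategoryTheory.Functor.map_id] at hk
      change gD ^ k • (gD ^ E • aD - y) = 0 at hk
      rw [smul_sub, sub_eq_zero, ← mul_smul, ← pow_add] at hk
      exact hk
    exact h3 ▸ S.smul _ hy
  choose k hk using key
  refine ⟨t.sup k, hc W _ (S.local' _ fun p hp => ?_)⟩
  obtain ⟨q, hqt, hpq⟩ := Set.mem_iUnion₂.mp (ht hp)
  refine ⟨X.basicOpen (h q), le_inf (X.basicOpen_le _) ((hhU q).trans (hUV q)), hpq, ?_⟩
  rw [map_map']
  have h4 : F.presheaf.map (homOfLE (X.basicOpen_le (h q))).op (g ^ t.sup k • a) =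
      (X.presheaf.map (homOfLE (X.basicOpen_le (h q))).op g) ^ (t.sup k - k q) •
        ((X.presheaf.map (homOfLE (X.basicOpen_le (h q))).op g) ^ k q •
          F.presheaf.map (homOfLE (X.basicOpen_le (h q))).op a) := by
    rw [map_smul', map_pow, ← mul_smul, ← pow_add, Nat.sub_add_cancel (Finset.le_sup hqt)]
  exact h4 ▸ S.smul _ (hk q)

/-- `S` relative to `V`, intersected with the span of `m` on `W`. -/
def glueSub (S : LocSub F) (V W : X.Opens) {I : Type u} [Fintype I] (m : I → Γ(F, W)) :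
    LocSub F where
  mem O a := S.mem (O ⊓ V) (F.presheaf.map (homOfLE inf_le_left).op a) ∧ (span F W m).mem O a
  zero O := ⟨by rw [map_zero]; exact S.zero _, (span F W m).zero O⟩
  add {O a b} ha hb := ⟨by rw [map_add]; exact S.add ha.1 hb.1, (span F W m).add ha.2 hb.2⟩
  smul {O} r {a} ha := ⟨by rw [map_smul']; exact S.smul _ ha.1, (span F W m).smul r ha.2⟩
  res {O O'} h {a} ha := ⟨by
    have := S.res (inf_le_inf_right V h) ha.1
    rw [map_map'] at this ⊢
    exact this, (span F W m).res h ha.2⟩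
  local' {O} a h := ⟨S.local' _ fun p hp => by
      obtain ⟨O', hO', hp', hm, -⟩ := h p hp.1
      refine ⟨O' ⊓ V, inf_le_inf_right V hO', ⟨hp', hp.2⟩, ?_⟩
      rw [map_map'] at hm ⊢
      exact hm,
    (span F W m).local' a fun p hp => by
      obtain ⟨O', hO', hp', -, hm⟩ := h p hp
      exact ⟨O', hO', hp', hm⟩⟩

/-- Extending over one affine. -/
theorem exists_extend_affine [Coh.IsQCoh F]
    (S : LocSub F) {V : X.Opens} (hc : Canon S V) (hft : FTBelow S V)
    {W : X.Opens} (hW : IsAffineOpen W) (hWV : IsCompact ((W ⊓ V : X.Opens) : Set X)) :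
    ∃ S' : LocSub F, Canon S' (V ⊔ W) ∧ FTBelow S' (V ⊔ W) ∧
      ∀ O ≤ V, ∀ a : Γ(F, O), S'.mem O a ↔ S.mem O a := by
  classical
  choose U hUV hpU n s hs hgen using fun q : ↥(W ⊓ V) => hft q.1 q.2.2
  choose h hhU hqh using fun q : ↥(W ⊓ V) => exists_basicOpen_nhd hW (hpU q) q.2.1
  obtain ⟨t, ht⟩ := hWV.elim_finite_subcover
    (fun q : ↥(W ⊓ V) => (X.basicOpen (h q) : Set X)) (fun q => (X.basicOpen _).isOpen)
    fun q hq => Set.mem_iUnion.mpr ⟨⟨q, hq⟩, hqh ⟨q, hq⟩⟩
  have hm : ∀ (q : ↥(W ⊓ V)) (i : ULift.{u} (Fin (n q))), ∃ (N : ℕ) (m : Γ(F, W)), S.mem W m ∧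
      F.presheaf.map (homOfLE (X.basicOpen_le (h q))).op m =
        (X.presheaf.map (homOfLE (X.basicOpen_le (h q))).op (h q)) ^ N •
          F.presheaf.map (homOfLE (hhU q)).op (s q i) := by
    intro q i
    obtain ⟨N, m, hm⟩ := (localizingAt_of_isQCoh hW F (h q)).exists_extend
      (F.presheaf.map (homOfLE (hhU q)).op (s q i))
    obtain ⟨k, hk⟩ := exists_pow_smul_mem S hc hft hW hWV (h q) m (by
      have h1 := S.res (inf_le_left : X.basicOpen (h q) ⊓ V ≤ X.basicOpen (h q))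
        (hm ▸ S.smul _ (S.res (hhU q) (hs q i)))
      rw [map_map'] at h1
      exact h1)
    refine ⟨k + N, _, hk, ?_⟩
    rw [map_smul', hm, map_pow, ← mul_smul, ← pow_add]
  choose N m hmS hm using hm
  let I := Σ q : t, ULift.{u} (Fin (n q.1))
  let M : I → Γ(F, W) := fun x => m x.1.1 x.2
  let S' := glueSub S V W M
  have hagree : ∀ O ≤ V, ∀ a : Γ(F, O), S'.mem O a ↔ S.mem O a := by
    intro O hO a
    constructor
    · intro ha
      exact hc O a ha.1
    · intro ha
      refine ⟨S.res inf_le_left ha, fun p hp hpW => ?_⟩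
      obtain ⟨q, hqt, hpq⟩ := Set.mem_iUnion₂.mp (ht (show p ∈ W ⊓ V from ⟨hpW, hO hp⟩))
      obtain ⟨O', hO', hO'U, hpO', c, hc'⟩ := hgen q (O ⊓ X.basicOpen (h q))
        (inf_le_right.trans (hhU q)) _ (S.res inf_le_left ha) p ⟨hp, hpq⟩
        (hhU q hpq)
      rw [map_map'] at hc'
      have hle : O' ≤ X.basicOpen (h q) := hO'.trans inf_le_right
      refine ⟨O', hO'.trans inf_le_left, hle.trans (X.basicOpen_le _), hpO', ?_⟩
      choose u hu using fun i => (isUnit_res (h q) hle).pow (N q i)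
      refine ⟨fun x => if hx : x.1.1 = q then c (cast (by rw [hx]) x.2) *
        ↑(u (cast (by rw [hx]) x.2))⁻¹ else 0, hc'.trans ?_⟩
      rw [Fintype.sum_sigma]
      rw [Finset.sum_eq_single (⟨q, hqt⟩ : t) (fun q' _ hq' => Finset.sum_eq_zero fun i _ => by
          dsimp only
          rw [dif_neg (fun e => hq' (Subtype.ext e)), zero_smul])
        (fun h => absurd (Finset.mem_univ _) h)]
      refine Finset.sum_congr rfl fun i _ => ?_
      dsimp only
      rw [dif_pos rfl]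
      simp only [cast_eq, M]
      have h1 := congr_arg (F.presheaf.map (homOfLE hle).op) (hm q i)
      rw [map_map', map_smul', map_map', map_pow, ringMap_map'] at h1
      rw [← homOfLE_comp hle (X.basicOpen_le (h q))] 
      rw [h1, ← mul_smul, mul_assoc]
      rw [show (X.presheaf.map ((homOfLE hle : O' ⟶ X.basicOpen (h q)) ≫
        homOfLE (X.basicOpen_le (h q))).op (h q)) ^ N q i = ↑(u i) from (hu i).symm]
      rw [Units.inv_mul, mul_one]
      rfl
  refine ⟨S', fun O a ha => ⟨?_, ?_⟩, ?_, hagree⟩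
  · refine hc _ _ (S.local' _ fun p hp => ?_)
    refine ⟨O ⊓ (V ⊔ W) ⊓ V, le_inf (le_inf (inf_le_left.trans inf_le_left) inf_le_right)
      inf_le_right, ⟨⟨hp.1.1, Or.inl hp.2⟩, hp.2⟩, ?_⟩
    have := ha.1
    rw [map_map'] at this
    rw [map_map', map_map']
    exact this
  · intro p hp hpW
    obtain ⟨O', hO', hO'W, hpO', c, hc'⟩ := ha.2 p ⟨hp, Or.inr hpW⟩ hpW
    rw [map_map'] at hc'
    exact ⟨O', hO'.trans inf_le_left, hO'W, hpO', c, hc'⟩
  · intro p hp
    by_cases hpV : p ∈ V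
    · obtain ⟨U', hU', hpU', k, r, hr, hgen'⟩ := hft p hpV
      exact ⟨U', hU'.trans le_sup_left, hpU', k, r, fun i => (hagree U' hU' _).mpr (hr i),
        fun O hO a ha => hgen' O hO a ((hagree O (hO.trans hU') a).mp ha)⟩
    · have hpW : p ∈ W := hp.resolve_left hpV
      let e : ULift.{u} (Fin (Fintype.card I)) ≃ I := Equiv.ulift.trans (Fintype.equivFin I).symm
      refine ⟨W, le_sup_right, hpW, Fintype.card I, fun i => M (e i), fun i => ⟨?_, ?_⟩,
        fun O hO a ha q hq hqW => ?_⟩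
      · exact S.res inf_le_left (hmS _ _)
      · exact span_self M (e i)
      · obtain ⟨O', hO', hO'W, hqO', c, hc'⟩ := ha.2 q hq hqW
        exact ⟨O', hO', hO'W, hqO', fun i => c (e i),
          hc'.trans (Equiv.sum_comp e fun x => c x • F.presheaf.map (homOfLE hO'W).op (M x)).symm⟩

/-- Stages of an extension. -/
structure Stage (U : X.Opens) (S₀ : LocSub F) where
  V : X.Opens
  S : LocSub F
  le : U ≤ V
  canon : Canon S V
  ft : FTBelow S V
  agree : ∀ O ≤ U, ∀ a : Γ(F, O), S.mem O a ↔ S₀.mem O a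

/-- The order on stages. -/
def Stage.LE' {U : X.Opens} {S₀ : LocSub F} (A B : Stage U S₀) : Prop :=
  A.V ≤ B.V ∧ ∀ O ≤ A.V, ∀ a : Γ(F, O), B.S.mem O a ↔ A.S.mem O a

/-- **Extension.** -/
theorem exists_ftExtension [Coh.IsQCoh F] (hX : ∀ W O : X.Opens, IsAffineOpen W →
      IsCompact ((W ⊓ O : X.Opens) : Set X))
    (U : X.Opens) (S₀ : LocSub F) (hc : Canon S₀ U) (hft : FTBelow S₀ U) :
    ∃ S : LocSub F, FTBelow S ⊤ ∧ ∀ O ≤ U, ∀ a : Γ(F, O), S.mem O a ↔ S₀.mem O a := by
  let A₀ : Stage U S₀ := ⟨U, S₀, le_rfl, hc, hft, fun _ _ _ => Iff.rfl⟩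
  have : Nonempty (Stage U S₀) := ⟨A₀⟩
  have hch : ∀ c : Set (Stage U S₀), IsChain Stage.LE' c →
      ∃ ub, ∀ A ∈ c, Stage.LE' A ub := by
    intro c hc'
    rcases c.eq_empty_or_nonempty with rfl | ⟨A₁, hA₁⟩
    · exact ⟨A₀, fun A hA => absurd hA (Set.notMem_empty A)⟩
    let V : X.Opens := ⨆ A : c, A.1.V
    let S : LocSub F :=
      { mem := fun O a => ∀ A : c,
          A.1.S.mem (O ⊓ A.1.V) (F.presheaf.map (homOfLE inf_le_left).op a)
        zero := fun O A => by rw [map_zero]; exact A.1.S.zero _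
        add := fun {O a b} ha hb A => by rw [map_add]; exact A.1.S.add (ha A) (hb A)
        smul := fun {O} r {a} ha A => by rw [map_smul']; exact A.1.S.smul _ (ha A)
        res := fun {O O'} h {a} ha A => by
          have := A.1.S.res (inf_le_inf_right A.1.V h) (ha A)
          rw [map_map'] at this ⊢
          exact this
        local' := fun {O} a h A => A.1.S.local' _ fun q hq => by
          obtain ⟨O', hO', hq', hm⟩ := h q hq.1
          refine ⟨O' ⊓ A.1.V, inf_le_inf_right _ hO', ⟨hq', hq.2⟩, ?_⟩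
          have := hm A
          rw [map_map'] at this ⊢
          exact this }
    have hagree : ∀ A : c, ∀ O ≤ A.1.V, ∀ a : Γ(F, O), S.mem O a ↔ A.1.S.mem O a := by
      intro A O hO a
      refine ⟨fun ha => A.1.canon O a (ha A), fun ha B => ?_⟩
      rcases eq_or_ne A.1 B.1 with e | e
      · exact e ▸ A.1.S.res _ ha
      · rcases hc' A.2 B.2 e with h | h
        · exact (h.2 _ (inf_le_left.trans hO) _).mpr (A.1.S.res _ ha)
        · exact (h.2 _ inf_le_right _).mp (A.1.S.res _ ha)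
    refine ⟨⟨V, S, A₁.le.trans (le_iSup_of_le ⟨A₁, hA₁⟩ le_rfl), fun O a ha A => ?_, fun p hp => ?_,
      fun O hO a => (hagree ⟨A₁, hA₁⟩ O (hO.trans A₁.le) a).trans (A₁.agree O hO a)⟩,
      fun A hA => ⟨le_iSup_of_le ⟨A, hA⟩ le_rfl, fun O hO a => hagree ⟨A, hA⟩ O hO a⟩⟩
    · have h1 := A.1.S.res (show O ⊓ A.1.V ≤ O ⊓ V ⊓ A.1.V from
        le_inf (inf_le_inf_left O (le_iSup_of_le A le_rfl)) inf_le_right) (ha A)
      rw [map_map', map_map'] at h1
      exact h1
    · obtain ⟨A, hpA⟩ := Opens.mem_iSup.mp hp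
      obtain ⟨U', hU', hpU', k, r, hr, hgen⟩ := A.1.ft p hpA
      exact ⟨U', hU'.trans (le_iSup_of_le A le_rfl), hpU', k, r,
        fun i => (hagree A U' hU' _).mpr (hr i),
        fun O hO a ha => hgen O hO a ((hagree A O (hO.trans hU') a).mp ha)⟩
  obtain ⟨A, hA⟩ := exists_maximal_of_chains_bounded hch
    (fun {A B C} h h' => ⟨h.1.trans h'.1, fun O hO a => (h'.2 O (hO.trans h.1) a).trans (h.2 O hO a)⟩)
  refine ⟨A.S, ?_, A.agree⟩
  suffices htop : A.V = ⊤ from htop ▸ A.ft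
  refine eq_top_iff.mpr fun p _ => ?_
  obtain ⟨W, hW, hpW⟩ := exists_affine_nhd p
  obtain ⟨S', h1, h2, h3⟩ := exists_extend_affine A.S A.canon A.ft hW (hX W A.V hW)
  let B : Stage U S₀ := ⟨A.V ⊔ W, S', A.le.trans le_sup_left, h1, h2,
    fun O hO a => (h3 O (hO.trans A.le) a).trans (A.agree O hO a)⟩
  exact (hA B ⟨le_sup_left, h3⟩).1 (Or.inr hpW)

theorem canon_top (S : LocSub F) : Canon S ⊤ := fun O a ha => by
  have := S.res (le_inf le_rfl le_top : O ≤ O ⊓ ⊤) ha
  rw [map_map'] at this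
  convert this using 1
  exact (ConcreteCategory.congr_hom (F.presheaf.map_id (op O)) a).symm

theorem isQCoh_toModules [Coh.IsQCoh F] (S : LocSub F) (hft : FTBelow S ⊤) :
    Coh.IsQCoh S.toModules := by
  rw [isQCoh_iff_localizingAt]
  intro W hW g
  refine ⟨fun z => ?_, fun z hz => ?_⟩
  · obtain ⟨N, t, ht⟩ := (localizingAt_of_isQCoh hW F g).exists_extend (S.ι.app _ z)
    obtain ⟨k, hk⟩ := exists_pow_smul_mem S (canon_top S) hft hW
      (by rw [inf_top_eq]; exact hW.isCompact) g t (by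
        have h1 := S.res (inf_le_left : X.basicOpen g ⊓ ⊤ ≤ X.basicOpen g)
          (ht ▸ S.smul _ (S.ι_app_mem z))
        rw [map_map'] at h1
        exact h1)
    refine ⟨k + N, S.lift _ hk, S.ι_app_injective _ ?_⟩
    rw [app_map, ι_lift, app_smul, map_smul', ht, map_pow, ← mul_smul, ← pow_add]
  · obtain ⟨N, hN⟩ := (localizingAt_of_isQCoh hW F g).eq_zero (S.ι.app _ z)
      (by rw [← app_map, hz, map_zero])
    exact ⟨N, S.ι_app_injective _ (by rw [app_smul, hN, map_zero])⟩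

theorem isFT_toModules (S : LocSub F) (hft : FTBelow S ⊤) : CohB1.IsFT S.toModules := by
  refine isFT_of_forall fun p => ?_
  obtain ⟨W, -, hpW, n, s, hs, hgen⟩ := hft p trivial
  refine ⟨W, hpW, n, fun k => S.lift (s k) (hs k), fun V hV z q hq => ?_⟩
  obtain ⟨O, hO, hOW, hqO, c, hc⟩ := hgen V hV _ (S.ι_app_mem z) q hq (hV hq)
  refine ⟨O, hO, hOW, hqO, c, S.ι_app_injective _ ?_⟩
  rw [app_map, hc, map_sum]
  refine Finset.sum_congr rfl fun k _ => ?_
  rw [app_smul, app_map]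
  rfl

/-- **Finite type submodules through a section**, on a quasi-compact quasi-separated scheme. -/
theorem exists_ft_through [CompactSpace X] [QuasiSeparatedSpace X] [Coh.IsQCoh F]
    (U : X.Opens) (hU : IsAffineOpen U) (s : Γ(F, U)) :
    ∃ S : LocSub F, FTBelow S ⊤ ∧ S.mem U s := by
  classical
  have key : ∀ t : Finset X.affineOpens, ∃ (V : X.Opens) (S : LocSub F), U ≤ V ∧
      (∀ W ∈ t, W.1 ≤ V) ∧ IsCompact (V : Set X) ∧ Canon S V ∧ FTBelow S V ∧ S.mem U s := by
    intro t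
    induction t using Finset.induction_on with
    | empty =>
      refine ⟨U, span F U (fun _ : ULift.{u} (Fin 1) => s), le_rfl,
        fun W hW => absurd hW (Finset.notMem_empty W), hU.isCompact, fun W a ha p hp hpU => ?_,
        fun p hp => ⟨U, le_rfl, hp, 1, fun _ => s, fun i => span_self _ i, fun W _ a ha => ha⟩,
        span_self (fun _ : ULift.{u} (Fin 1) => s) ⟨0⟩⟩
      obtain ⟨O, hO, hOU, hpO, c, hc⟩ := ha p ⟨hp, hpU⟩ hpU
      rw [map_map'] at hc
      exact ⟨O, hO.trans inf_le_left, hOU, hpO, c, hc⟩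
    | insert W t hWt ih =>
      obtain ⟨V, S, hUV, htV, hV, hc, hft, hs⟩ := ih
      obtain ⟨S', h1, h2, h3⟩ := exists_extend_affine S hc hft W.2
        (QuasiSeparatedSpace.inter_isCompact _ _ W.1.isOpen W.2.isCompact V.isOpen hV)
      exact ⟨V ⊔ W.1, S', hUV.trans le_sup_left, fun W' hW' => (Finset.mem_insert.mp hW').elim
        (fun e => e ▸ le_sup_right) fun h => (htV W' h).trans le_sup_left,
        hV.union W.2.isCompact, h1, h2, (h3 U hUV s).mpr hs⟩
  obtain ⟨t, ht⟩ : ∃ t : Finset X.affineOpens, (Set.univ : Set X) ⊆ ⋃ V ∈ t, (V.1 : Set X) :=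
    isCompact_univ.elim_finite_subcover (fun V : X.affineOpens => (V.1 : Set X))
      (fun V => V.1.isOpen) (fun p _ => by
        obtain ⟨V, hV, hp⟩ := exists_affine_nhd p
        exact Set.mem_iUnion.mpr ⟨⟨V, hV⟩, hp⟩)
  obtain ⟨V, S, -, htV, -, -, hft, hs⟩ := key t
  obtain rfl : V = ⊤ := eq_top_iff.mpr fun p _ => by
    obtain ⟨W, hW, hpW⟩ := Set.mem_iUnion₂.mp (ht (Set.mem_univ p))
    exact htV W hW hpW
  exact ⟨S, hft, hs⟩

end LocSub
end QCohLib
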