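import Groth.Agent.QCohLib.Local

universe u
open CategoryTheory CategoryTheory.Limits TopologicalSpace Opposite AlgebraicGeometry

namespace QCohLib
variable {X : Scheme.{u}}

/-- The two localisation conditions for `Γ(M, V) → Γ(M, W)` at a function `f` defined around `V`. -/
structure LocPair (M : X.Modules) {U : X.Opens} (f : Γ(X, U)) (V W : X.Opens) (hWV : W ≤ V)
    (hVU : V ≤ U) : Prop where
  exists_extend : ∀ s : Γ(M, W), ∃ (n : ℕ) (t : Γ(M, V)),
    M.presheaf.map (homOfLE hWV).op t = (X.presheaf.map (homOfLE (hWV.trans hVU)).op f) ^ n • s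
  eq_zero : ∀ t : Γ(M, V), M.presheaf.map (homOfLE hWV).op t = 0 →
    ∃ n : ℕ, (X.presheaf.map (homOfLE hVU).op f) ^ n • t = 0

/-- Sections over `D(f)` are the localisation of sections over `U`. -/
def LocalizingAt (M : X.Modules) {U : X.Opens} (f : Γ(X, U)) : Prop :=
  LocPair M f U (X.basicOpen f) (X.basicOpen_le f) le_rfl

theorem appIso_fromSpec {U : X.Opens} (hU : IsAffineOpen U) (W : (Spec Γ(X, U)).Opens)
    (hW : hU.fromSpec ''ᵁ W ≤ U) (r : Γ(X, U)) :
    (hU.fromSpec.appIso W).inv ((Spec Γ(X, U)).presheaf.map W.leTop.op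
      ((Scheme.ΓSpecIso Γ(X, U)).inv r)) = X.presheaf.map (homOfLE hW).op r := by
  apply (hU.fromSpec.appIso W).commRingCatIsoToRingEquiv.injective
  change (hU.fromSpec.appIso W).hom _ = (hU.fromSpec.appIso W).hom _
  rw [Iso.inv_hom_id_apply, Scheme.Hom.appIso_hom', ← CommRingCat.comp_apply,
    ← CommRingCat.comp_apply, Scheme.Hom.map_appLE, Scheme.Hom.appLE, hU.fromSpec_app_self,
    Category.assoc, ← Functor.map_comp]
  rfl

theorem restrict_smul {U : X.Opens} (hU : IsAffineOpen U) (M : X.Modules)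
    (W : (Spec Γ(X, U)).Opens) (hW : hU.fromSpec ''ᵁ W ≤ U) (r : Γ(X, U))
    (x : Γ(M.restrict hU.fromSpec, W)) :
    (M.restrictAppIso hU.fromSpec W).hom (r • x) =
      X.presheaf.map (homOfLE hW).op r • (M.restrictAppIso hU.fromSpec W).hom x := by
  rw [Scheme.Modules.smul_Spec_def, ← appIso_fromSpec hU W hW r]
  exact Scheme.Modules.smul_restrictAppIso_hom_apply hU.fromSpec M W _ x

theorem image_le_self {U : X.Opens} (hU : IsAffineOpen U) (W : (Spec Γ(X, U)).Opens) :
    hU.fromSpec ''ᵁ W ≤ U :=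
  le_of_le_of_eq (Scheme.Hom.image_mono _ le_top)
    ((Scheme.Hom.image_top_eq_opensRange _).trans hU.opensRange_fromSpec)

theorem locPair_congr {M : X.Modules} {U : X.Opens} {f : Γ(X, U)} {V W V' W' : X.Opens}
    {hWV : W ≤ V} {hVU : V ≤ U} {hWV' : W' ≤ V'} {hVU' : V' ≤ U} (hV : V = V') (hW : W = W') :
    LocPair M f V W hWV hVU ↔ LocPair M f V' W' hWV' hVU' := by
  subst hV hW; rfl

theorem isLocalizing_iff_localizingAt {U : X.Opens} (hU : IsAffineOpen U) (M : X.Modules) :
    IsLocalizing (modulesSpecToSheaf.obj (M.restrict hU.fromSpec)) ↔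
      ∀ f : Γ(X, U), LocalizingAt M f := by
  refine forall_congr' fun f => ?_
  refine Iff.trans ?_ (locPair_congr (M := M) (f := f)
    (hWV := Scheme.Hom.image_mono hU.fromSpec (le_top (a := PrimeSpectrum.basicOpen f)))
    (hVU := image_le_self hU ⊤)
    ((Scheme.Hom.image_top_eq_opensRange _).trans hU.opensRange_fromSpec)
    (hU.fromSpec_image_basicOpen f))
  let N := M.restrict hU.fromSpec
  constructor
  · intro h
    refine ⟨fun s => ?_, fun t ht => ?_⟩
    · obtain ⟨⟨t, _, n, rfl⟩, ht⟩ :=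
        IsLocalizedModule.surj (.powers f) _ (self := h) (show Γ(N, PrimeSpectrum.basicOpen f) from s)
      refine ⟨n, t, ?_⟩
      have := congr((M.restrictAppIso hU.fromSpec (PrimeSpectrum.basicOpen f)).hom $ht.symm)
      refine this.trans ?_
      refine (restrict_smul hU M _ (image_le_self hU _) (f ^ n) _).trans ?_
      rw [map_pow]
      rfl
    · have := h
      obtain ⟨⟨_, n, rfl⟩, hn⟩ :=
        (IsLocalizedModule.eq_zero_iff (.powers f) _).mp
          (show ((modulesSpecToSheaf.obj N).obj.map (PrimeSpectrum.basicOpen f).leTop.op).hom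
            (show Γ(N, ⊤) from t) = 0 from ht)
      refine ⟨n, ?_⟩
      have := congr((M.restrictAppIso hU.fromSpec ⊤).hom $hn)
      rw [← map_pow]
      exact ((restrict_smul hU M ⊤ (image_le_self hU _) (f ^ n) _).symm.trans this).trans (map_zero _)
  · intro h
    refine IsLocalizedModule.Away.mk_of_addCommGroup ?_ ?_ ?_
    · exact Scheme.Modules.isUnit_algebraMap_end_of_le_basicOpen f le_rfl
    · intro (x : Γ(N, PrimeSpectrum.basicOpen f))
      obtain ⟨n, t, ht⟩ := h.exists_extend x
      refine ⟨n, t, ?_⟩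
      refine ((restrict_smul hU M _ (image_le_self hU _) (f ^ n) x).trans ?_)
      rw [map_pow]
      exact ht.symm
    · intro (x : Γ(N, ⊤)) hx
      obtain ⟨n, hn⟩ := h.eq_zero x hx
      refine ⟨n, ?_⟩
      refine ((restrict_smul hU M ⊤ (image_le_self hU _) (f ^ n) x).trans ?_)
      rw [map_pow]
      exact hn

/-- On an affine open, sections of a quasi-coherent module localise. -/
theorem localizingAt_of_isQCoh {U : X.Opens} (hU : IsAffineOpen U) (M : X.Modules) [Coh.IsQCoh M]
    (f : Γ(X, U)) : LocalizingAt M f :=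
  (isLocalizing_iff_localizingAt hU M).mp
    ((isIso_fromTildeΓ_iff_isLocalizing _).mp
      (Scheme.Modules.isIso_fromTildeΓ_of_isQuasicoherent _)) f

theorem isQCoh_restrict_ι_of_fromSpec {U : X.Opens} (hU : IsAffineOpen U) (M : X.Modules)
    (h : Coh.IsQCoh (M.restrict hU.fromSpec)) : Coh.IsQCoh (M.restrict U.ι) :=
  (SheafOfModules.isQuasicoherent (↑U : Scheme).ringCatSheaf).prop_of_iso
    (((Scheme.Modules.restrictFunctorComp hU.isoSpec.hom hU.fromSpec).app M).symm ≪≫
      (Scheme.Modules.restrictFunctorCongr hU.isoSpec_hom_fromSpec).app M)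
    (Scheme.Modules.isQuasicoherent_restrictFunctor hU.isoSpec.hom (M.restrict hU.fromSpec))

/-- Quasi-coherence from localisation on an affine cover. -/
theorem isQCoh_of_localizingAt (M : X.Modules) {ι : Type u} (U : ι → X.Opens)
    (hU : ∀ i, IsAffineOpen (U i)) (hcov : ⨆ i, U i = ⊤)
    (h : ∀ i, ∀ f : Γ(X, U i), LocalizingAt M f) : Coh.IsQCoh M :=
  isQCoh_of_cover M U hcov fun i => isQCoh_restrict_ι_of_fromSpec (hU i) M
    ((isQuasicoherent_iff_isIso_fromTildeΓ _).mpr
      ((isIso_fromTildeΓ_iff_isLocalizing _).mpr ((isLocalizing_iff_localizingAt (hU i) M).mpr (h i))))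

/-- The affine opens cover. -/
theorem iSup_affineOpens_val : ⨆ U : X.affineOpens, U.1 = ⊤ := iSup_affineOpens_eq_top X

/-- Quasi-coherence from localisation on all affine opens. -/
theorem isQCoh_iff_localizingAt (M : X.Modules) :
    Coh.IsQCoh M ↔ ∀ U : X.Opens, IsAffineOpen U → ∀ f : Γ(X, U), LocalizingAt M f :=
  ⟨fun h _ hU f => @localizingAt_of_isQCoh _ _ hU M h f,
    fun h => isQCoh_of_localizingAt M (fun U : X.affineOpens => U.1) (fun U => U.2)
      iSup_affineOpens_val fun U f => h U.1 U.2 f⟩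

end QCohLib
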