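import Groth.Prelude.Def_CohB1
import Mathlib.RingTheory.MvPolynomial.Homogeneous

universe u
open CategoryTheory CategoryTheory.Limits TopologicalSpace AlgebraicGeometry

namespace QCohLib

variable (n : ℕ) (R : Type u) [CommRing R]

/-- The standard opens of projective space. -/
noncomputable def stdOpen (i : Fin (n + 1)) : (CohB1.ProjSpace n R).Opens :=
  Proj.basicOpen (CohB1.polyGrading n R) (MvPolynomial.X i)

theorem iSup_stdOpen : ⨆ i, stdOpen n R i = ⊤ := by
  refine Proj.iSup_basicOpen_eq_top' (CohB1.polyGrading n R) _
    (fun i => ⟨1, MvPolynomial.isHomogeneous_X R i⟩) ?_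
  rw [eq_top_iff]
  intro p hp0
  clear hp0
  have hp : p ∈ Algebra.adjoin R (Set.range (MvPolynomial.X : Fin (n + 1) → _)) := by
    rw [MvPolynomial.adjoin_range_X]; trivial
  induction hp using Algebra.adjoin_induction with
  | mem x hx => exact Algebra.subset_adjoin hx
  | algebraMap r =>
    exact Subalgebra.algebraMap_mem _
      (⟨algebraMap R _ r, MvPolynomial.isHomogeneous_C _ r⟩ : CohB1.polyGrading n R 0)
  | add x y _ _ hx hy => exact add_mem hx hy
  | mul x y _ _ hx hy => exact mul_mem hx hy

theorem isAffineOpen_inf_stdOpen (s : Finset (Fin (n + 1))) (hs : s.Nonempty) :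
    IsAffineOpen (s.inf (stdOpen n R)) := by
  classical
  have h : s.inf (stdOpen n R) =
      Proj.basicOpen (CohB1.polyGrading n R) (∏ i ∈ s, MvPolynomial.X i) := by
    induction s using Finset.induction with
    | empty => exact absurd hs Finset.not_nonempty_empty
    | @insert a s ha ih =>
      rw [Finset.inf_insert, Finset.prod_insert ha, Proj.basicOpen_mul]
      rcases s.eq_empty_or_nonempty with rfl | hne
      · simp [stdOpen]
      · rw [ih hne]; rfl
  rw [h]
  exact Proj.isAffineOpen_basicOpen _ _
    (MvPolynomial.IsHomogeneous.prod s _ (fun _ => 1) fun i _ => MvPolynomial.isHomogeneous_X R i)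
    (by simpa using hs.card_pos)

end QCohLib
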