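import Groth.Agent.QCohLib.Vanishing

universe u
open CategoryTheory CategoryTheory.Limits TopologicalSpace Opposite AlgebraicGeometry

namespace QCohLib

section
variable {X : TopCat.{u}} {F : AbSh X} {S V : Opens X}

theorem sheaf_glue_two (s : F.obj.obj (op S)) (t : F.obj.obj (op V))
    (h : F.obj.map (homOfLE (inf_le_left : S ⊓ V ≤ S)).op s =
      F.obj.map (homOfLE (inf_le_right : S ⊓ V ≤ V)).op t) :
    ∃ x : F.obj.obj (op (S ⊔ V)), F.obj.map (homOfLE le_sup_left).op x = s ∧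
      F.obj.map (homOfLE le_sup_right).op x = t := by
  have hS := mvSeq_shortExact S V
  have := hS.epi_g
  obtain ⟨φ, rfl⟩ := zEquiv.surjective s
  obtain ⟨ψ, rfl⟩ := zEquiv.surjective t
  have hz : (mvSeq S V).f ≫ biprod.desc φ ψ = 0 := by
    rw [biprod.lift_desc, Preadditive.neg_comp, ← sub_eq_add_neg, sub_eq_zero]
    apply zEquiv.injective
    rw [zEquiv_zmap, zEquiv_zmap, h]
  refine ⟨zEquiv (hS.exact.desc (biprod.desc φ ψ) hz), ?_, ?_⟩
  · rw [← zEquiv_zmap, ← biprod.inl_desc (zmap (homOfLE (le_sup_left : S ≤ S ⊔ V)))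
      (zmap (homOfLE (le_sup_right : V ≤ S ⊔ V))), Category.assoc]
    exact congrArg zEquiv ((congrArg (biprod.inl ≫ ·) (hS.exact.g_desc _ hz)).trans (biprod.inl_desc _ _))
  · rw [← zEquiv_zmap, ← biprod.inr_desc (zmap (homOfLE (le_sup_left : S ≤ S ⊔ V)))
      (zmap (homOfLE (le_sup_right : V ≤ S ⊔ V))), Category.assoc]
    exact congrArg zEquiv ((congrArg (biprod.inr ≫ ·) (hS.exact.g_desc _ hz)).trans (biprod.inr_desc _ _))

theorem sheaf_ext_two {x y : F.obj.obj (op (S ⊔ V))}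
    (h₁ : F.obj.map (homOfLE le_sup_left).op x = F.obj.map (homOfLE le_sup_left).op y)
    (h₂ : F.obj.map (homOfLE le_sup_right).op x = F.obj.map (homOfLE le_sup_right).op y) : x = y := by
  obtain ⟨φ, rfl⟩ := zEquiv.surjective x
  obtain ⟨ψ, rfl⟩ := zEquiv.surjective y
  have := (mvSeq_shortExact S V).epi_g
  congr 1
  rw [← cancel_epi (mvSeq S V).g]
  apply biprod.hom_ext' <;> apply zEquiv.injective
  · rw [biprod.inl_desc_assoc, biprod.inl_desc_assoc, zEquiv_zmap, zEquiv_zmap, h₁]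
  · rw [biprod.inr_desc_assoc, biprod.inr_desc_assoc, zEquiv_zmap, zEquiv_zmap, h₂]

end

variable {X : Scheme.{u}} {M : X.Modules}

theorem glue_two {S V : X.Opens} (s : Γ(M, S)) (t : Γ(M, V))
    (h : M.presheaf.map (homOfLE (inf_le_left : S ⊓ V ≤ S)).op s =
      M.presheaf.map (homOfLE (inf_le_right : S ⊓ V ≤ V)).op t) :
    ∃ x : Γ(M, S ⊔ V), M.presheaf.map (homOfLE le_sup_left).op x = s ∧
      M.presheaf.map (homOfLE le_sup_right).op x = t :=
  sheaf_glue_two (X := X.toTopCat) (F := (toAbF X).obj M) s t h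

theorem ext_two {S V : X.Opens} {x y : Γ(M, S ⊔ V)}
    (h₁ : M.presheaf.map (homOfLE le_sup_left).op x = M.presheaf.map (homOfLE le_sup_left).op y)
    (h₂ : M.presheaf.map (homOfLE le_sup_right).op x = M.presheaf.map (homOfLE le_sup_right).op y) :
    x = y :=
  sheaf_ext_two (X := X.toTopCat) (F := (toAbF X).obj M) h₁ h₂

theorem map_smul_pow {S V : X.Opens} {W : X.Opens} (a : Γ(X, W)) (hVS : V ≤ S) (hS : S ≤ W) (n : ℕ)
    (x : Γ(M, S)) :
    M.presheaf.map (homOfLE hVS).op ((X.presheaf.map (homOfLE hS).op a) ^ n • x) =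
      (X.presheaf.map (homOfLE (hVS.trans hS)).op a) ^ n • M.presheaf.map (homOfLE hVS).op x := by
  rw [Scheme.Modules.map_smul, map_pow, ringMap_map', homOfLE_comp]

theorem LocPair.of_affine [Coh.IsQCoh M] {W V : X.Opens} (a : Γ(X, W)) (hV : IsAffineOpen V)
    (hVW : V ≤ W) : LocPair M a V (V ⊓ X.basicOpen a) inf_le_left hVW := by
  obtain ⟨h1, h2⟩ := localizingAt_of_isQCoh hV M (X.presheaf.map (homOfLE hVW).op a)
  have h : LocPair M a V (X.basicOpen (X.presheaf.map (homOfLE hVW).op a))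
      (X.basicOpen_le _) hVW := by
    refine ⟨fun s => ?_, fun t ht => ?_⟩
    · obtain ⟨n, t, ht⟩ := h1 s
      exact ⟨n, t, by rwa [ringMap_map', homOfLE_comp] at ht⟩
    · obtain ⟨n, hn⟩ := h2 t ht
      exact ⟨n, by rwa [ringMap_map', homOfLE_comp] at hn⟩
  exact (locPair_congr rfl (X.basicOpen_res a (homOfLE hVW).op)).mp h

theorem exists_pow_smul_eq_zero [Coh.IsQCoh M] {W : X.Opens} (a : Γ(X, W)) (S : X.Opens)
    (hS : IsCompact (S : Set X)) (hSW : S ≤ W) (t : Γ(M, S))
    (ht : M.presheaf.map (homOfLE (inf_le_left : S ⊓ X.basicOpen a ≤ S)).op t = 0) :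
    ∃ n : ℕ, (X.presheaf.map (homOfLE hSW).op a) ^ n • t = 0 := by
  revert hSW t ht
  refine compact_open_induction_on S hS ?_ ?_
  · intro _ t _
    have := AddCommGrpCat.subsingleton_of_isZero
      (IsTerminal.isZero (TopCat.Sheaf.isTerminalOfEmpty ((toAbF X).obj M)))
    exact ⟨0, this.elim _ _⟩
  · intro S hS V ih hSW t ht
    obtain ⟨n, hn⟩ := ih (le_sup_left.trans hSW) (M.presheaf.map (homOfLE le_sup_left).op t) (by
      rw [map_map', homOfLE_comp]
      have := congrArg (M.presheaf.map (homOfLE (inf_le_inf_right (X.basicOpen a)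
        (le_sup_left : S ≤ S ⊔ V.1))).op) ht
      rwa [map_zero, map_map', homOfLE_comp] at this)
    obtain ⟨m, hm⟩ := (LocPair.of_affine a V.2 (le_sup_right.trans hSW)).eq_zero
      (M.presheaf.map (homOfLE (le_sup_right : V.1 ≤ S ⊔ V.1)).op t) (by
      rw [map_map', homOfLE_comp]
      have := congrArg (M.presheaf.map (homOfLE (inf_le_inf_right (X.basicOpen a)
        (le_sup_right : V.1 ≤ S ⊔ V.1))).op) ht
      rwa [map_zero, map_map', homOfLE_comp] at this)
    refine ⟨n + m, ext_two ?_ ?_⟩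
    · rw [map_zero, map_smul_pow, add_comm, pow_add, mul_smul, hn, smul_zero]
    · rw [map_zero, map_smul_pow, pow_add, mul_smul, hm, smul_zero]

theorem exists_pow_smul_extend [Coh.IsQCoh M] {W : X.Opens} (hqs : IsQuasiSeparated (W : Set X))
    (a : Γ(X, W)) (S : X.Opens) (hS : IsCompact (S : Set X)) (hSW : S ≤ W)
    (s : Γ(M, S ⊓ X.basicOpen a)) :
    ∃ (n : ℕ) (t : Γ(M, S)),
      M.presheaf.map (homOfLE (inf_le_left : S ⊓ X.basicOpen a ≤ S)).op t =
      (X.presheaf.map (homOfLE ((inf_le_left : S ⊓ X.basicOpen a ≤ S).trans hSW)).op a) ^ n • s := by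
  revert hSW s
  refine compact_open_induction_on S hS ?_ ?_
  · intro _ s
    refine ⟨0, 0, ?_⟩
    have := AddCommGrpCat.subsingleton_of_isZero
      (IsTerminal.isZero (TopCat.Sheaf.isTerminalOfEqEmpty ((toAbF X).obj M)
        (U := ⊥ ⊓ X.basicOpen a) (bot_inf_eq _)))
    exact this.elim _ _
  · rintro S hS ⟨V, hV⟩ ih hSW s
    have hSW' : S ≤ W := le_sup_left.trans hSW
    have hVW : V ≤ W := le_sup_right.trans hSW
    obtain ⟨n, t₁, ht₁⟩ := ih hSW' (M.presheaf.map
      (homOfLE (inf_le_inf_right (X.basicOpen a) le_sup_left)).op s)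
    obtain ⟨m, t₂, ht₂⟩ := (LocPair.of_affine (M := M) a hV hVW).exists_extend
      (M.presheaf.map (homOfLE (inf_le_inf_right (X.basicOpen a) le_sup_right)).op s)
    let u₁ := (X.presheaf.map (homOfLE hSW').op a) ^ m • t₁
    let u₂ := (X.presheaf.map (homOfLE hVW).op a) ^ n • t₂
    have hI : S ⊓ V ≤ W := inf_le_left.trans hSW'
    obtain ⟨k, hk⟩ := exists_pow_smul_eq_zero (M := M) a (S ⊓ V)
      (hqs _ _ hSW' S.isOpen hS hVW V.isOpen hV.isCompact) hI
      (M.presheaf.map (homOfLE inf_le_left).op u₁ - M.presheaf.map (homOfLE inf_le_right).op u₂) (by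
        have e₁ : (S ⊓ V) ⊓ X.basicOpen a ≤ S ⊓ X.basicOpen a := inf_le_inf_right _ inf_le_left
        have e₂ : (S ⊓ V) ⊓ X.basicOpen a ≤ V ⊓ X.basicOpen a := inf_le_inf_right _ inf_le_right
        have h₁ := congrArg (M.presheaf.map (homOfLE e₁).op) ht₁
        have h₂ := congrArg (M.presheaf.map (homOfLE e₂).op) ht₂
        rw [map_smul_pow, map_map', map_map', homOfLE_comp, homOfLE_comp] at h₁ h₂
        rw [map_sub, map_map', map_map', homOfLE_comp, homOfLE_comp, map_smul_pow, map_smul_pow,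
          h₁, h₂, smul_smul, smul_smul, ← pow_add, ← pow_add, add_comm, sub_self])
    obtain ⟨x, hx₁, hx₂⟩ := glue_two ((X.presheaf.map (homOfLE hSW').op a) ^ k • u₁)
      ((X.presheaf.map (homOfLE hVW).op a) ^ k • u₂) (by
        refine (map_smul_pow a inf_le_left hSW' k u₁).trans (Eq.trans ?_
          (map_smul_pow a inf_le_right hVW k u₂).symm)
        exact sub_eq_zero.mp ((smul_sub _ _ _).symm.trans hk))
    refine ⟨k + m + n, x, ?_⟩
    have e : (S ⊔ V) ⊓ X.basicOpen a = (S ⊓ X.basicOpen a) ⊔ (V ⊓ X.basicOpen a) := inf_sup_right _ _ _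
    have key : ∀ (D : X.Opens) (hD : D = (S ⊓ X.basicOpen a) ⊔ (V ⊓ X.basicOpen a)) (y z : Γ(M, D)),
        M.presheaf.map (homOfLE (le_sup_left.trans hD.ge)).op y =
          M.presheaf.map (homOfLE (le_sup_left.trans hD.ge)).op z →
        M.presheaf.map (homOfLE (le_sup_right.trans hD.ge)).op y =
          M.presheaf.map (homOfLE (le_sup_right.trans hD.ge)).op z → y = z := by
      rintro D rfl y z h₁ h₂
      exact ext_two h₁ h₂
    refine key _ e _ _ ?_ ?_
    · rw [map_map', homOfLE_comp, map_smul_pow]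
      rw [← homOfLE_comp (inf_le_left : S ⊓ X.basicOpen a ≤ S) (le_sup_left : S ≤ S ⊔ V),
        ← map_map', hx₁, map_smul_pow, map_smul_pow, ht₁, smul_smul, smul_smul, ← pow_add, ← pow_add]
    · rw [map_map', homOfLE_comp, map_smul_pow]
      rw [← homOfLE_comp (inf_le_left : V ⊓ X.basicOpen a ≤ V) (le_sup_right : V ≤ S ⊔ V),
        ← map_map', hx₂, map_smul_pow, map_smul_pow, ht₂, smul_smul, smul_smul, ← pow_add, ← pow_add,
        add_right_comm]

/-- Sections over `D(a)` localise for quasi-compact quasi-separated `W`. -/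
theorem localizingAt_of_qcqs (M : X.Modules) [Coh.IsQCoh M] {W : X.Opens}
    (hW : IsCompact (W : Set X)) (hqs : IsQuasiSeparated (W : Set X)) (a : Γ(X, W)) :
    LocalizingAt M a :=
  (locPair_congr (hWV := inf_le_left) rfl (inf_eq_right.mpr (X.basicOpen_le a))).mp
    ⟨exists_pow_smul_extend hqs a W hW le_rfl, exists_pow_smul_eq_zero a W hW le_rfl⟩

end QCohLib
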