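import Groth.Prelude.Def_Coh
import Mathlib.Topology.Sheaves.MayerVietoris
import Mathlib.CategoryTheory.Sites.SheafCohomology.MayerVietoris
import Mathlib.Topology.Sheaves.Flasque

universe u
open CategoryTheory CategoryTheory.Limits TopologicalSpace Opposite CategoryTheory.Abelian

namespace QCohLib
variable {X : TopCat.{u}}

abbrev AbSh (X : TopCat.{u}) := Sheaf (Opens.grothendieckTopology X) AddCommGrpCat.{u}

instance isGrothendieckAbelian_abSh : IsGrothendieckAbelian.{u} (AbSh X) :=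
  Sheaf.isGrothendieckAbelian_of_essentiallySmall _ _

/-- The free abelian sheaf on an open. -/
noncomputable abbrev zsh (U : Opens X) : AbSh X :=
  (presheafToSheaf _ _).obj (yoneda.obj U ⋙ AddCommGrpCat.free)

noncomputable abbrev zmap {V U : Opens X} (i : V ⟶ U) : zsh V ⟶ zsh U :=
  (presheafToSheaf _ _).map (Functor.whiskerRight (yoneda.map i) _)

noncomputable def gen (U : Opens X) : (zsh U).obj.obj (op U) :=
  (toSheafify (Opens.grothendieckTopology X) (yoneda.obj U ⋙ AddCommGrpCat.free)).app (op U)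
    (FreeAbelianGroup.of (𝟙 U : U ⟶ U))

noncomputable def liftPre {U : Opens X} (P : (Opens X)ᵒᵖ ⥤ AddCommGrpCat.{u}) (s : P.obj (op U)) :
    (yoneda.obj U ⋙ AddCommGrpCat.free : (Opens X)ᵒᵖ ⥤ _) ⟶ P where
  app V := AddCommGrpCat.ofHom (FreeAbelianGroup.lift fun (i : V.unop ⟶ U) => P.map i.op s)
  naturality V W f := by
    apply AddCommGrpCat.hom_ext
    apply FreeAbelianGroup.lift_ext
    intro (i : V.unop ⟶ U)
    change FreeAbelianGroup.lift _ (FreeAbelianGroup.map _ (FreeAbelianGroup.of i)) =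
      P.map f (FreeAbelianGroup.lift _ (FreeAbelianGroup.of i))
    rw [FreeAbelianGroup.map_of_apply, FreeAbelianGroup.lift_apply_of, FreeAbelianGroup.lift_apply_of]
    change P.map (i.op ≫ f) s = _
    rw [P.map_comp]; rfl

theorem liftPre_of {U : Opens X} (P : (Opens X)ᵒᵖ ⥤ AddCommGrpCat.{u}) (s : P.obj (op U)) :
    (liftPre P s).app (op U) (FreeAbelianGroup.of (𝟙 U : U ⟶ U)) = s := by
  change FreeAbelianGroup.lift _ (FreeAbelianGroup.of (𝟙 U : U ⟶ U)) = s
  rw [FreeAbelianGroup.lift_apply_of]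
  simp

theorem pre_ext {U : Opens X} {P : (Opens X)ᵒᵖ ⥤ AddCommGrpCat.{u}}
    {φ ψ : (yoneda.obj U ⋙ AddCommGrpCat.free : (Opens X)ᵒᵖ ⥤ _) ⟶ P}
    (h : φ.app (op U) (FreeAbelianGroup.of (𝟙 U : U ⟶ U)) =
      ψ.app (op U) (FreeAbelianGroup.of (𝟙 U : U ⟶ U))) : φ = ψ := by
  ext1; ext1 V
  apply AddCommGrpCat.hom_ext
  apply FreeAbelianGroup.lift_ext
  intro (i : V.unop ⟶ U)
  have e (χ : (yoneda.obj U ⋙ AddCommGrpCat.free : (Opens X)ᵒᵖ ⥤ _) ⟶ P) :
      χ.app V (FreeAbelianGroup.of i) =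
        P.map i.op (χ.app (op U) (FreeAbelianGroup.of (𝟙 U : U ⟶ U))) := by
    have := congr($(χ.naturality i.op) (FreeAbelianGroup.of (𝟙 U : U ⟶ U)))
    refine Eq.trans (congrArg (χ.app V) ?_) this
    change FreeAbelianGroup.of i = FreeAbelianGroup.map _ (FreeAbelianGroup.of (𝟙 U : U ⟶ U))
    rw [FreeAbelianGroup.map_of_apply]
    exact congrArg _ (Category.comp_id i).symm
  exact (e φ).trans ((congrArg _ h).trans (e ψ).symm)

/-- Maps out of the free sheaf on `U` are sections over `U`. -/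
noncomputable def zEquiv {U : Opens X} {F : AbSh X} : (zsh U ⟶ F) ≃+ F.obj.obj (op U) :=
  AddEquiv.ofBijective
    (AddMonoidHom.mk' (fun φ => φ.hom.app (op U) (gen U)) (fun _ _ => rfl))
    ⟨fun φ ψ h => by
      apply Sheaf.hom_ext
      apply sheafify_hom_ext _ _ _ F.property
      exact pre_ext h,
    fun s => ⟨⟨sheafifyLift _ (liftPre F.obj s) F.property⟩, by
      change ((toSheafify _ _ ≫ sheafifyLift _ (liftPre F.obj s) F.property)).app (op U)
        (FreeAbelianGroup.of (𝟙 U : U ⟶ U)) = s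
      rw [toSheafify_sheafifyLift]
      exact liftPre_of _ _⟩⟩

theorem zEquiv_comp {U : Opens X} {F G : AbSh X} (φ : zsh U ⟶ F) (g : F ⟶ G) :
    zEquiv (φ ≫ g) = g.hom.app (op U) (zEquiv φ) := rfl

theorem gen_map {V U : Opens X} (i : V ⟶ U) :
    (zmap i).hom.app (op V) (gen V) = (zsh U).obj.map i.op (gen U) := by
  have h1 := congr($(((toSheafify_naturality (Opens.grothendieckTopology X)
    (Functor.whiskerRight (yoneda.map i) AddCommGrpCat.free))).symm).app (op V)
    (FreeAbelianGroup.of (𝟙 V : V ⟶ V)))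
  have h2 := congr($((toSheafify (Opens.grothendieckTopology X)
    (yoneda.obj U ⋙ AddCommGrpCat.free)).naturality i.op) (FreeAbelianGroup.of (𝟙 U : U ⟶ U)))
  refine h1.trans (Eq.trans ?_ h2)
  refine congrArg (fun z => (toSheafify (Opens.grothendieckTopology X)
    (yoneda.obj U ⋙ AddCommGrpCat.free)).app (op V) z) ?_
  change FreeAbelianGroup.map _ (FreeAbelianGroup.of (𝟙 V : V ⟶ V)) =
    FreeAbelianGroup.map _ (FreeAbelianGroup.of (𝟙 U : U ⟶ U))
  rw [FreeAbelianGroup.map_of_apply, FreeAbelianGroup.map_of_apply]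
  exact congrArg _ ((Category.id_comp i).trans (Category.comp_id i).symm)

theorem zEquiv_zmap {V U : Opens X} {F : AbSh X} (i : V ⟶ U) (φ : zsh U ⟶ F) :
    zEquiv (zmap i ≫ φ) = F.obj.map i.op (zEquiv φ) := by
  change φ.hom.app (op V) ((zmap i).hom.app (op V) (gen V)) = F.obj.map i.op (φ.hom.app (op U) (gen U))
  rw [gen_map]
  exact congr($(φ.hom.naturality i.op) (gen U))

/-- Cohomology `H^n(U, F)` on an open `U`, computed in the category of sheaves on `X`. -/
abbrev HU (F : AbSh X) (n : ℕ) (U : Opens X) : Type u := Ext (zsh U) F n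

/-- Restriction in cohomology. -/
noncomputable def res {F : AbSh X} {n : ℕ} {V U : Opens X} (i : V ⟶ U) : HU F n U →+ HU F n V :=
  (Ext.mk₀ (zmap i)).precomp F (zero_add n)

theorem res_apply {F : AbSh X} {n : ℕ} {V U : Opens X} (i : V ⟶ U) (x : HU F n U) :
    res i x = (Ext.mk₀ (zmap i)).comp x (zero_add n) := rfl

theorem zmap_comp {W V U : Opens X} (j : W ⟶ V) (i : V ⟶ U) : zmap (j ≫ i) = zmap j ≫ zmap i := by
  rw [zmap, zmap, zmap, Functor.map_comp, Functor.whiskerRight_comp, Functor.map_comp]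

theorem res_res {F : AbSh X} {n : ℕ} {W V U : Opens X} (j : W ⟶ V) (i : V ⟶ U) (x : HU F n U) :
    res j (res i x) = res (j ≫ i) x := by
  rw [res_apply, res_apply, res_apply, Ext.mk₀_comp_mk₀_assoc, zmap_comp]

theorem res_comp {F G : AbSh X} {n m : ℕ} {V U : Opens X} (i : V ⟶ U) (x : HU F n U)
    (y : Ext F G m) {k : ℕ} (h : n + m = k) :
    res i (x.comp y h) = (res i x).comp y h :=
  (Ext.comp_assoc _ _ _ (zero_add n) h (by omega)).symm

/-- Degree zero cohomology is sections. -/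
noncomputable def h0 {F : AbSh X} {U : Opens X} : HU F 0 U ≃+ F.obj.obj (op U) :=
  Ext.addEquiv₀.trans zEquiv

theorem h0_mk₀ {F : AbSh X} {U : Opens X} (φ : zsh U ⟶ F) : h0 (Ext.mk₀ φ) = zEquiv φ := by
  rw [show Ext.mk₀ φ = Ext.addEquiv₀.symm φ from rfl, h0, AddEquiv.trans_apply,
    AddEquiv.apply_symm_apply]

theorem h0_surj {F : AbSh X} {U : Opens X} (x : HU F 0 U) : ∃ φ, x = Ext.mk₀ φ :=
  ⟨Ext.addEquiv₀ x, (Ext.addEquiv₀.symm_apply_apply x).symm⟩

theorem h0_comp {F G : AbSh X} {U : Opens X} (x : HU F 0 U) (g : F ⟶ G) :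
    h0 (x.comp (Ext.mk₀ g) (add_zero 0)) = g.hom.app (op U) (h0 x) := by
  obtain ⟨φ, rfl⟩ := h0_surj x
  rw [Ext.mk₀_comp_mk₀, h0_mk₀, h0_mk₀, zEquiv_comp]

theorem h0_res {F : AbSh X} {V U : Opens X} (i : V ⟶ U) (x : HU F 0 U) :
    h0 (res i x) = F.obj.map i.op (h0 x) := by
  obtain ⟨φ, rfl⟩ := h0_surj x
  rw [res_apply, Ext.mk₀_comp_mk₀, h0_mk₀, h0_mk₀, zEquiv_zmap]

/-- If `H¹(U, S.X₁) = 0`, sections lift along `S.g`. -/
theorem exists_lift_of_subsingleton {S : ShortComplex (AbSh X)} (hS : S.ShortExact) {U : Opens X}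
    [Subsingleton (HU S.X₁ 1 U)] (s : S.X₃.obj.obj (op U)) :
    ∃ t : S.X₂.obj.obj (op U), S.g.hom.app (op U) t = s := by
  obtain ⟨y, hy⟩ := Ext.covariant_sequence_exact₃ _ hS (h0.symm s) (zero_add 1)
    (Subsingleton.elim _ _)
  exact ⟨h0 y, by rw [← h0_comp, hy, AddEquiv.apply_symm_apply]⟩

/-- An injective embedding, as a short exact sequence. -/
noncomputable abbrev injSeq (F : AbSh X) : ShortComplex (AbSh X) :=
  ShortComplex.mk (Injective.ι F) (cokernel.π (Injective.ι F)) (cokernel.condition _)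

theorem injSeq_shortExact (F : AbSh X) : (injSeq F).ShortExact where
  exact := ShortComplex.exact_of_g_is_cokernel _ (cokernelIsCokernel _)
  mono_f := inferInstanceAs (Mono (Injective.ι F))
  epi_g := inferInstanceAs (Epi (cokernel.π (Injective.ι F)))

instance (F : AbSh X) : Injective (injSeq F).X₂ := inferInstanceAs (Injective (Injective.under F))

/-- Every class of positive degree comes from the cokernel of an embedding into an acyclic
object. -/
theorem exists_eq_comp_extClass {S : ShortComplex (AbSh X)} (hS : S.ShortExact) {U : Opens X}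
    {n : ℕ} [Subsingleton (HU S.X₂ (n + 1) U)] (x : HU S.X₁ (n + 1) U) :
    ∃ y : HU S.X₃ n U, y.comp hS.extClass rfl = x :=
  Ext.covariant_sequence_exact₁ _ hS x (Subsingleton.elim _ _) rfl

instance subsingleton_of_injective (F : AbSh X) [Injective F] (n : ℕ) (U : Opens X) :
    Subsingleton (HU F (n + 1) U) :=
  subsingleton_of_forall_eq 0 fun x => Ext.eq_zero_of_injective x

/-- Positive degree classes die locally. -/
theorem exists_res_eq_zero (n : ℕ) {F : AbSh X} {U : Opens X} (x : HU F (n + 1) U) {p : X}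
    (hp : p ∈ U) : ∃ (V : Opens X) (i : V ⟶ U), p ∈ V ∧ res i x = 0 := by
  induction n generalizing F with
  | zero =>
    have hS := injSeq_shortExact F
    obtain ⟨y, rfl⟩ := exists_eq_comp_extClass (S := injSeq F) hS x
    have := hS.epi_g
    have hls := (Sheaf.isLocallySurjective_iff_epi' (φ := (injSeq F).g)).mpr hS.epi_g
    obtain ⟨V, hVU, ⟨t, ht⟩, hpV⟩ :=
      (TopCat.Presheaf.isLocallySurjective_iff (injSeq F).g.hom).mp hls U (h0 y) p hp
    refine ⟨V, homOfLE hVU, hpV, ?_⟩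
    have : res (homOfLE hVU) y = (h0.symm t).comp (Ext.mk₀ (injSeq F).g) (add_zero 0) := by
      apply h0.injective
      rw [h0_res, h0_comp, AddEquiv.apply_symm_apply, ht]
      rfl
    rw [res_comp, this, Ext.comp_assoc_of_second_deg_zero, hS.comp_extClass, Ext.comp_zero]
  | succ n ih =>
    obtain ⟨y, rfl⟩ := exists_eq_comp_extClass (injSeq_shortExact F) x
    obtain ⟨V, i, hV, h⟩ := ih y
    exact ⟨V, i, hV, by rw [res_comp, h, Ext.zero_comp]⟩

theorem isZero_zsh_bot : IsZero (zsh (⊥ : Opens X)) := by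
  rw [IsZero.iff_id_eq_zero]
  apply zEquiv.injective
  have := AddCommGrpCat.subsingleton_of_isZero
    (IsTerminal.isZero (TopCat.Sheaf.isTerminalOfEmpty (zsh (⊥ : Opens X))))
  exact Subsingleton.elim _ _

instance subsingleton_bot (F : AbSh X) (n : ℕ) : Subsingleton (HU F n (⊥ : Opens X)) :=
  subsingleton_of_forall_eq 0 fun x => by
    rw [← Ext.mk₀_id_comp x, IsZero.iff_id_eq_zero _ |>.mp isZero_zsh_bot, Ext.mk₀_zero,
      Ext.zero_comp]

/-- The Mayer–Vietoris sequence of free sheaves. -/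
noncomputable abbrev mvSeq (U V : Opens X) : ShortComplex (AbSh X) :=
  ShortComplex.mk
    (biprod.lift (zmap (homOfLE inf_le_left : U ⊓ V ⟶ U))
      (-zmap (homOfLE inf_le_right : U ⊓ V ⟶ V)))
    (biprod.desc (zmap (homOfLE le_sup_left : U ⟶ U ⊔ V))
      (zmap (homOfLE le_sup_right : V ⟶ U ⊔ V)))
    (by rw [biprod.lift_desc, Preadditive.neg_comp, ← zmap_comp, ← zmap_comp]; exact add_neg_cancel _)

theorem mvSeq_shortExact (U V : Opens X) : (mvSeq U V).ShortExact :=
  (Opens.mayerVietorisSquare (T := X) U V).shortComplex_shortExact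

/-- Mayer–Vietoris: a class vanishing on `U` and `V` vanishes on `U ⊔ V` if degree-`n` classes on
`U ⊓ V` are differences. -/
theorem mv_eq_zero {F : AbSh X} {n : ℕ} {U V : Opens X} (x : HU F (n + 1) (U ⊔ V))
    (hU : res (homOfLE le_sup_left) x = 0) (hV : res (homOfLE le_sup_right) x = 0)
    (hsurj : ∀ y : HU F n (U ⊓ V), ∃ (a : HU F n U) (b : HU F n V),
      res (homOfLE inf_le_left) a - res (homOfLE inf_le_right) b = y) : x = 0 := by
  have hS := mvSeq_shortExact U V
  have hx : (Ext.mk₀ (mvSeq U V).g).comp x (zero_add _) = 0 := by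
    apply Ext.biprodAddEquiv.injective
    refine Eq.trans ?_ (map_zero _).symm
    apply Prod.ext
    · change (Ext.mk₀ biprod.inl).comp _ (zero_add _) = 0
      rw [Ext.mk₀_comp_mk₀_assoc, biprod.inl_desc]
      exact hU
    · change (Ext.mk₀ biprod.inr).comp _ (zero_add _) = 0
      rw [Ext.mk₀_comp_mk₀_assoc, biprod.inr_desc]
      exact hV
  obtain ⟨y, hy⟩ := Ext.contravariant_sequence_exact₃ hS F x hx (add_comm 1 n)
  obtain ⟨a, b, hab⟩ := hsurj y
  have : y = (Ext.mk₀ (mvSeq U V).f).comp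
      ((Ext.mk₀ biprod.fst).comp a (zero_add n) + (Ext.mk₀ biprod.snd).comp b (zero_add n))
      (zero_add n) := by
    rw [← hab, Ext.comp_add, Ext.mk₀_comp_mk₀_assoc, Ext.mk₀_comp_mk₀_assoc, biprod.lift_fst,
      biprod.lift_snd, Ext.mk₀_neg, Ext.neg_comp, sub_eq_add_neg]
    rfl
  rw [← hy, this]
  exact hS.extClass_comp_assoc _

/-- Mayer–Vietoris vanishing. -/
theorem subsingleton_sup {F : AbSh X} {n : ℕ} {U V : Opens X} [Subsingleton (HU F (n + 1) U)]
    [Subsingleton (HU F (n + 1) V)] (hsurj : ∀ y : HU F n (U ⊓ V), ∃ (a : HU F n U) (b : HU F n V),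
      res (homOfLE inf_le_left) a - res (homOfLE inf_le_right) b = y) :
    Subsingleton (HU F (n + 1) (U ⊔ V)) :=
  subsingleton_of_forall_eq 0 fun x =>
    mv_eq_zero x (Subsingleton.elim _ _) (Subsingleton.elim _ _) hsurj

theorem subsingleton_sup' {F : AbSh X} {n : ℕ} {U V : Opens X} [Subsingleton (HU F (n + 1) U)]
    [Subsingleton (HU F (n + 1) V)] [Subsingleton (HU F n (U ⊓ V))] :
    Subsingleton (HU F (n + 1) (U ⊔ V)) :=
  subsingleton_sup fun _ => ⟨0, 0, Subsingleton.elim _ _⟩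

instance mono_zmap {V U : Opens X} (i : V ⟶ U) : Mono (zmap i) := by
  have : Mono i := ⟨fun _ _ _ => Subsingleton.elim _ _⟩
  infer_instance

/-- Injective sheaves are flasque. -/
instance isFlasque_of_injective (F : AbSh X) [Injective F] :
    TopCat.Sheaf.IsFlasque (F : TopCat.Sheaf AddCommGrpCat X) where
  epi {U V} i := by
    rw [AddCommGrpCat.epi_iff_surjective]
    intro s
    obtain ⟨φ, rfl⟩ := zEquiv.surjective (s : F.obj.obj (op V.unop))
    refine ⟨zEquiv (Injective.factorThru φ (zmap i.unop)), ?_⟩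
    exact (zEquiv_zmap i.unop _).symm.trans (congrArg _ (Injective.comp_factorThru φ (zmap i.unop)))

/-- Flasque sheaves are acyclic on every open. -/
theorem subsingleton_of_isFlasque (n : ℕ) (F : AbSh X)
    [TopCat.Sheaf.IsFlasque (F : TopCat.Sheaf AddCommGrpCat X)] (U : Opens X) :
    Subsingleton (HU F (n + 1) U) := by
  refine subsingleton_of_forall_eq 0 fun x => ?_
  induction n generalizing F with
  | zero =>
    have hS := injSeq_shortExact F
    obtain ⟨y, rfl⟩ := exists_eq_comp_extClass (S := injSeq F) hS x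
    have : TopCat.Sheaf.IsFlasque ((injSeq F).X₁ : TopCat.Sheaf AddCommGrpCat X) := ‹_›
    have hsurj : Function.Surjective ((injSeq F).g.hom.app (op U)) :=
      (AddCommGrpCat.epi_iff_surjective _).mp
        (TopCat.Sheaf.IsFlasque.epi_of_shortExact (X := X) (U := U) hS)
    obtain ⟨t, ht⟩ := hsurj (h0 y)
    have : y = (h0.symm t).comp (Ext.mk₀ (injSeq F).g) (add_zero 0) := by
      apply h0.injective
      rw [h0_comp, AddEquiv.apply_symm_apply, ht]
    rw [this, Ext.comp_assoc_of_second_deg_zero, hS.comp_extClass, Ext.comp_zero]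
  | succ n ih =>
    obtain ⟨y, rfl⟩ := exists_eq_comp_extClass (injSeq_shortExact F) x
    have h1 : TopCat.Sheaf.IsFlasque ((injSeq F).X₁ : TopCat.Sheaf AddCommGrpCat X) := ‹_›
    have h2 := isFlasque_of_injective (injSeq F).X₂
    have := TopCat.Sheaf.IsFlasque.of_shortExact_of_isFlasque₁₂ (X := X) (injSeq_shortExact F)
    rw [ih (injSeq F).X₃ y, Ext.zero_comp]

/-- The constant presheaf `ℤ` is the free presheaf on the whole space. -/
noncomputable def constIsoPre : (Functor.const (Opens X)ᵒᵖ).obj (AddCommGrpCat.of (ULift.{u} ℤ)) ≅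
    yoneda.obj (⊤ : Opens X) ⋙ AddCommGrpCat.free :=
  NatIso.ofComponents
    (fun W => AddEquiv.toAddCommGrpIso (X := AddCommGrpCat.of (ULift.{u} ℤ))
      (Y := AddCommGrpCat.of (FreeAbelianGroup (W.unop ⟶ (⊤ : Opens X))))
      (haveI : Unique (W.unop ⟶ (⊤ : Opens X)) := ⟨⟨homOfLE le_top⟩, fun _ => Subsingleton.elim _ _⟩
       AddEquiv.ulift.trans (FreeAbelianGroup.uniqueEquiv (W.unop ⟶ (⊤ : Opens X))).symm))
    (fun {W W'} f => by
      apply AddCommGrpCat.hom_ext
      ext ⟨n⟩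
      change n • FreeAbelianGroup.of (homOfLE le_top : W'.unop ⟶ (⊤ : Opens X)) =
        FreeAbelianGroup.map _ (n • FreeAbelianGroup.of (homOfLE le_top : W.unop ⟶ (⊤ : Opens X)))
      rw [map_zsmul, FreeAbelianGroup.map_of_apply]
      rfl)

/-- The constant sheaf `ℤ` is the free sheaf on the whole space. -/
noncomputable def constIsoZsh : (constantSheaf (Opens.grothendieckTopology X) AddCommGrpCat.{u}).obj
    (AddCommGrpCat.of (ULift.{u} ℤ)) ≅ zsh (⊤ : Opens X) :=
  (presheafToSheaf _ _).mapIso constIsoPre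

/-- `Ext` along an isomorphism in the first variable. -/
noncomputable def extCongrLeft {A B F : AbSh X} (e : A ≅ B) (n : ℕ) : Ext A F n ≃+ Ext B F n :=
  AddEquiv.mk
    { toFun := fun x => (Ext.mk₀ e.inv).comp x (zero_add n)
      invFun := fun x => (Ext.mk₀ e.hom).comp x (zero_add n)
      left_inv := fun x => by simp
      right_inv := fun x => by simp }
    (fun x y => Ext.comp_add _ _ _ (zero_add n))

theorem extCongrLeft_comp {A B F G : AbSh X} (e : A ≅ B) (n : ℕ) (x : Ext A F n) (f : F ⟶ G) :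
    extCongrLeft e n (x.comp (Ext.mk₀ f) (add_zero n)) =
      (extCongrLeft e n x).comp (Ext.mk₀ f) (add_zero n) :=
  (Ext.comp_assoc (Ext.mk₀ e.inv) x (Ext.mk₀ f) (zero_add n) (add_zero n) (by omega)).symm

/-- `H^n(X, F) ≃ H^n(⊤, F)`. -/
noncomputable def hEquiv (F : AbSh X) (n : ℕ) :
    CategoryTheory.Sheaf.H F n ≃+ HU F n (⊤ : Opens X) :=
  extCongrLeft constIsoZsh n

theorem hEquiv_map {F G : AbSh X} (f : F ⟶ G) (n : ℕ) (x : CategoryTheory.Sheaf.H F n) :
    hEquiv G n (CategoryTheory.Sheaf.H.map f n x) =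
      (hEquiv F n x).comp (Ext.mk₀ f) (add_zero n) :=
  extCongrLeft_comp constIsoZsh n x f

theorem subsingleton_H_iff (F : AbSh X) (n : ℕ) :
    Subsingleton (CategoryTheory.Sheaf.H F n) ↔ Subsingleton (HU F n (⊤ : Opens X)) :=
  (hEquiv F n).toEquiv.subsingleton_congr

end QCohLib
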