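import Groth.Agent.QCohLib.Support

/-!
# Submodules given by local conditions on sections
-/

universe u
open CategoryTheory CategoryTheory.Limits TopologicalSpace Opposite AlgebraicGeometry

namespace QCohLib
variable {X : Scheme.{u}}

/-- A subsheaf of modules of `F`, as a local condition on sections. -/
structure LocSub (F : X.Modules) where
  mem : ∀ V : X.Opens, Γ(F, V) → Prop
  zero : ∀ V, mem V 0
  add : ∀ {V} {a b : Γ(F, V)}, mem V a → mem V b → mem V (a + b)
  smul : ∀ {V} (r : Γ(X, V)) {a : Γ(F, V)}, mem V a → mem V (r • a)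
  res : ∀ {V W : X.Opens} (h : W ≤ V) {a : Γ(F, V)}, mem V a →
    mem W (F.presheaf.map (homOfLE h).op a)
  local' : ∀ {V : X.Opens} (a : Γ(F, V)), (∀ p : X, p ∈ V → ∃ (W : X.Opens) (h : W ≤ V), p ∈ W ∧
    mem W (F.presheaf.map (homOfLE h).op a)) → mem V a

namespace LocSub
variable {F : X.Modules} (S : LocSub F)

/-- The sections of `S` over `V`. -/
noncomputable def sub (V : X.Opens) : Submodule Γ(X, V) Γ(F, V) where
  carrier := {a | S.mem V a}
  zero_mem' := S.zero V
  add_mem' := S.add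
  smul_mem' r _ := S.smul r

@[simp] theorem mem_sub {V : X.Opens} (a : Γ(F, V)) : a ∈ S.sub V ↔ S.mem V a := Iff.rfl

theorem sum {V : X.Opens} {κ : Type*} (t : Finset κ) (a : κ → Γ(F, V))
    (h : ∀ i ∈ t, S.mem V (a i)) : S.mem V (∑ i ∈ t, a i) :=
  (S.sub V).sum_mem h

theorem map_congr {V W W' : X.Opens} {a : Γ(F, V)} (e : W = W') (h : W ≤ V) (h' : W' ≤ V)
    (ha : S.mem W (F.presheaf.map (homOfLE h).op a)) :
    S.mem W' (F.presheaf.map (homOfLE h').op a) := by
  subst e
  exact ha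

/-- The presheaf of sections. -/
noncomputable def pre : (Opens X)ᵒᵖ ⥤ AddCommGrpCat.{u} where
  obj V := AddCommGrpCat.of (S.sub V.unop)
  map {V W} i := AddCommGrpCat.ofHom
    (AddMonoidHom.mk' (fun a => (⟨F.presheaf.map i a.1, S.res (leOfHom i.unop) a.2⟩ : S.sub W.unop))
      fun a b => Subtype.ext (map_add (F.presheaf.map i).hom a.1 b.1))
  map_id V := by
    refine ConcreteCategory.hom_ext _ _ fun (a : S.sub V.unop) => ?_
    exact Subtype.ext (ConcreteCategory.congr_hom (F.presheaf.map_id V) a.1)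
  map_comp i j := by
    rename_i U V W
    refine ConcreteCategory.hom_ext _ _ fun (a : S.sub U.unop) => ?_
    exact Subtype.ext (ConcreteCategory.congr_hom (F.presheaf.map_comp i j) a.1)

/-- As a presheaf of modules. -/
noncomputable def pmod : X.PresheafOfModules :=
  letI : ∀ V : (Opens X)ᵒᵖ, Module (X.ringCatSheaf.obj.obj V) (S.pre.obj V) := fun V =>
    inferInstanceAs (Module Γ(X, V.unop) (S.sub V.unop))
  PresheafOfModules.ofPresheaf S.pre fun V W i r a => Subtype.ext (F.val.map_smul i r a.1)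

theorem isSheaf : TopCat.Presheaf.IsSheaf (X := X.toTopCat) S.pre := by
  rw [TopCat.Presheaf.isSheaf_iff_isSheafUniqueGluing]
  intro ι U sf hsf
  obtain ⟨g, hg, huniq⟩ := TopCat.Sheaf.existsUnique_gluing
    ((toAbF X).obj F : TopCat.Sheaf AddCommGrpCat _) U (fun i => (sf i).1)
    fun i j => congr_arg Subtype.val (hsf i j)
  refine ⟨⟨g, S.local' g fun p hp => ?_⟩, fun i => Subtype.ext (hg i),
    fun y hy => Subtype.ext (huniq y.1 fun i => congr_arg Subtype.val (hy i))⟩
  obtain ⟨i, hi⟩ := Opens.mem_iSup.mp hp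
  refine ⟨U i, le_iSup U i, hi, ?_⟩
  have := (sf i).2
  rw [show (sf i).1 = _ from (hg i).symm] at this
  exact this

/-- As an `O_X`-module. -/
noncomputable def toModules : X.Modules := ⟨S.pmod, S.isSheaf⟩

/-- The inclusion. -/
noncomputable def ι : S.toModules ⟶ F :=
  ⟨PresheafOfModules.homMk (M₁ := S.pmod) (M₂ := F.val)
    { app := fun V => AddCommGrpCat.ofHom (S.sub V.unop).subtype.toAddMonoidHom
      naturality := fun _ _ _ => rfl }
    fun _ _ _ => rfl⟩

theorem ι_app {V : X.Opens} (a : Γ(S.toModules, V)) : S.ι.app V a = (a : S.sub V).1 := rfl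

theorem ι_app_mem {V : X.Opens} (a : Γ(S.toModules, V)) : S.mem V (S.ι.app V a) := (a : S.sub V).2

theorem ι_app_injective (V : X.Opens) : Function.Injective (S.ι.app V) :=
  fun _ _ h => Subtype.ext h

instance mono_ι : Mono S.ι := by
  have : ∀ V, Mono (((Scheme.Modules.toPresheaf X).map S.ι).app V) := fun V =>
    (AddCommGrpCat.mono_iff_injective _).mpr (S.ι_app_injective V.unop)
  have := NatTrans.mono_of_mono_app ((Scheme.Modules.toPresheaf X).map S.ι)
  exact (Scheme.Modules.toPresheaf X).mono_of_mono_map this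

/-- A section in `S`. -/
noncomputable def lift {V : X.Opens} (a : Γ(F, V)) (h : S.mem V a) : Γ(S.toModules, V) :=
  (⟨a, h⟩ : S.sub V)

theorem ι_lift {V : X.Opens} (a : Γ(F, V)) (h : S.mem V a) : S.ι.app V (S.lift a h) = a := rfl

/-- Sections locally generated by `s` on `U` (no condition outside `U`). -/
def span (F : X.Modules) (U : X.Opens) {I : Type u} [Fintype I] (s : I → Γ(F, U)) : LocSub F where
  mem V a := ∀ p : X, p ∈ V → p ∈ U → ∃ (W : X.Opens) (h : W ≤ V) (hU : W ≤ U), p ∈ W ∧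
    ∃ c : I → Γ(X, W), F.presheaf.map (homOfLE h).op a =
      ∑ i, c i • F.presheaf.map (homOfLE hU).op (s i)
  zero V p hp hpU := ⟨V ⊓ U, inf_le_left, inf_le_right, ⟨hp, hpU⟩, fun _ => 0, by simp⟩
  add {V a b} ha hb p hp hpU := by
    obtain ⟨W, h, hU, hpW, c, hc⟩ := ha p hp hpU
    obtain ⟨W', h', hU', hpW', c', hc'⟩ := hb p hp hpU
    refine ⟨W ⊓ W', inf_le_left.trans h, inf_le_left.trans hU, ⟨hpW, hpW'⟩,
      fun i => X.presheaf.map (homOfLE inf_le_left).op (c i) +
        X.presheaf.map (homOfLE inf_le_right).op (c' i), ?_⟩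
    have h1 := congr_arg (F.presheaf.map (homOfLE (inf_le_left : W ⊓ W' ≤ W)).op) hc
    have h2 := congr_arg (F.presheaf.map (homOfLE (inf_le_right : W ⊓ W' ≤ W')).op) hc'
    rw [map_map', map_sum] at h1 h2
    rw [map_add]
    refine (congr_arg₂ (· + ·) h1 h2).trans ?_
    rw [← Finset.sum_add_distrib]
    refine Finset.sum_congr rfl fun i _ => ?_
    rw [map_smul', map_smul', map_map', map_map', add_smul]
    rfl
  smul {V} r {a} ha p hp hpU := by
    obtain ⟨W, h, hU, hpW, c, hc⟩ := ha p hp hpU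
    refine ⟨W, h, hU, hpW, fun i => X.presheaf.map (homOfLE h).op r * c i, ?_⟩
    rw [map_smul', hc, Finset.smul_sum]
    simp [mul_smul]
  res {V V'} hVV {a} ha p hp hpU := by
    obtain ⟨W, h, hU, hpW, c, hc⟩ := ha p (hVV hp) hpU
    refine ⟨W ⊓ V', inf_le_right, inf_le_left.trans hU, ⟨hpW, hp⟩,
      fun i => X.presheaf.map (homOfLE inf_le_left).op (c i), ?_⟩
    have h1 := congr_arg (F.presheaf.map (homOfLE (inf_le_left : W ⊓ V' ≤ W)).op) hc
    rw [map_map', map_sum] at h1
    refine (map_map' F _ _ a).trans (h1.trans (Finset.sum_congr rfl fun i _ => ?_))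
    rw [map_smul', map_map']
    rfl
  local' {V} a h p hp hpU := by
    obtain ⟨W, hW, hpW, hm⟩ := h p hp
    obtain ⟨W', h', hU, hpW', c, hc⟩ := hm p hpW hpU
    rw [map_map'] at hc
    exact ⟨W', h'.trans hW, hU, hpW', c, hc⟩

theorem span_self {U : X.Opens} {I : Type u} [Fintype I] (s : I → Γ(F, U)) (i : I) :
    (span F U s).mem U (s i) := fun p hp _ => by
  classical
  refine ⟨U, le_rfl, le_rfl, hp, Pi.single i 1, ?_⟩
  rw [Finset.sum_eq_single i (fun j _ hj => by rw [Pi.single_eq_of_ne hj, zero_smul])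
    (fun h => absurd (Finset.mem_univ i) h), Pi.single_eq_same, one_smul]

/-- `S` contains the span of its sections. -/
theorem span_le {U : X.Opens} {I : Type u} [Fintype I] {s : I → Γ(F, U)}
    (hs : ∀ i, S.mem U (s i)) {V : X.Opens} (hV : V ≤ U) {a : Γ(F, V)}
    (ha : (span F U s).mem V a) : S.mem V a := by
  refine S.local' a fun p hp => ?_
  obtain ⟨W, h, hU, hpW, c, hc⟩ := ha p hp (hV hp)
  exact ⟨W, h, hpW, hc ▸ S.sum _ _ fun i _ => S.smul _ (S.res hU (hs i))⟩

/-- On an affine, locally generated sections are combinations. -/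
theorem exists_eq_sum [Coh.IsQCoh F] {U : X.Opens} {I : Type u} [Fintype I] {s : I → Γ(F, U)}
    {D : X.Opens} (hD : IsAffineOpen D) (hDU : D ≤ U) {a : Γ(F, D)}
    (ha : (span F U s).mem D a) :
    ∃ c : I → Γ(X, D), a = ∑ i, c i • F.presheaf.map (homOfLE hDU).op (s i) := by
  have : IsAffine (D : Scheme) := hD
  let M := F.restrict D.ι
  let s' : I → Γ(M, ⊤) := fun i =>
    F.presheaf.map (homOfLE ((D.ι_image_le ⊤).trans hDU)).op (s i)
  obtain ⟨E, φ, hE, hφ, hj⟩ := exists_cover s' Finset.univ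
  choose j hj using fun i => hj i (Finset.mem_univ i)
  let a' : Γ(M, ⊤) := F.presheaf.map (homOfLE (D.ι_image_le ⊤)).op a
  have hgen : ∀ i, s' i = φ.app ⊤ ((j i).app ⊤ (1 : Γ((D : Scheme), ⊤))) := fun i => by
    refine Eq.trans ?_ (congr_arg (fun θ : Coh.structureModule _ ⟶ M => θ.app ⊤
      (1 : Γ((D : Scheme), ⊤))) (hj i)).symm
    rw [unitHom_app, one_smul]
    exact (toSections_top M (s' i)).symm
  have hπ : (cokernel.π φ).app ⊤ a' = 0 := by
    have hzero : ∀ i, (cokernel.π φ).app ⊤ (s' i) = 0 := fun i => by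
      rw [hgen]
      exact congr_arg (fun θ : E ⟶ cokernel φ => θ.app ⊤ _) (cokernel.condition φ)
    refine TopCat.Presheaf.section_ext ((toAbF _).obj (cokernel φ) :
      TopCat.Sheaf AddCommGrpCat _) ⊤ _ 0 fun q hq => ?_
    obtain ⟨W, h, hU, hqW, c, hc⟩ := ha (D.ι q) q.2 (hDU q.2)
    have hqW' : q ∈ D.ι ⁻¹ᵁ W := hqW
    have hle : D.ι ''ᵁ (D.ι ⁻¹ᵁ W) ≤ W := D.ι.image_preimage_le W
    have h1 := congr_arg (F.presheaf.map (homOfLE hle).op) hc
    rw [map_map', map_sum] at h1
    have h2 : M.presheaf.map (homOfLE (le_top : D.ι ⁻¹ᵁ W ≤ ⊤)).op a' =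
        ∑ i, (D.ι.appIso _).hom (X.presheaf.map (homOfLE hle).op (c i)) •
          M.presheaf.map (homOfLE (le_top : D.ι ⁻¹ᵁ W ≤ ⊤)).op (s' i) := by
      refine (map_map' F _ _ a).trans (h1.trans (Finset.sum_congr rfl fun i _ => ?_))
      rw [map_smul', map_map']
      refine Eq.trans ?_ (Scheme.Modules.smul_restrictAppIso_hom_apply D.ι F _ _ _).symm
      exact congr_arg₂ (· • ·) (Iso.hom_inv_id_apply (D.ι.appIso _) _).symm (map_map' F
        (homOfLE (D.ι.image_mono (le_top : D.ι ⁻¹ᵁ W ≤ ⊤)))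
        (homOfLE ((D.ι_image_le ⊤).trans hDU)) (s i)).symm
    rw [← TopCat.Presheaf.germ_res_apply _ (homOfLE (le_top : D.ι ⁻¹ᵁ W ≤ ⊤)) q hqW']
    have hz : ∀ {A B : AddCommGrpCat.{u}} (g : A ⟶ B), g 0 = 0 := fun g => map_zero _
    refine Eq.trans ?_ (hz _).symm
    have h3 : (cokernel φ).presheaf.map (homOfLE (le_top : D.ι ⁻¹ᵁ W ≤ ⊤)).op
        ((cokernel.π φ).app ⊤ a') = 0 := by
      rw [← app_map, h2, map_sum]
      exact Finset.sum_eq_zero fun i _ => by
        rw [app_smul, app_map, hzero, map_zero, smul_zero]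
    exact (congr_arg _ h3).trans (hz _)
  let T : ShortComplex (D : Scheme).Modules :=
    ShortComplex.mk (kernel.ι (cokernel.π φ)) (cokernel.π φ) (kernel.condition _)
  obtain ⟨b, hb⟩ := exists_of_app_eq_zero (S := T)
    (ShortComplex.exact_of_f_is_kernel _ (kernelIsKernel _)) inferInstance a' hπ
  have hI : Coh.IsQCoh (Abelian.image φ) := isQCoh_image φ
  have : Coh.IsQCoh (kernel φ) := isQCoh_kernel φ
  let S' : ShortComplex (D : Scheme).Modules := ShortComplex.mk (kernel.ι φ)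
    (Abelian.factorThruImage φ)
    (by rw [← cancel_mono (Abelian.image.ι φ), Category.assoc, Abelian.image.fac,
      kernel.condition, zero_comp])
  have hS' : S'.ShortExact :=
    { exact := by
        let S'' : ShortComplex (D : Scheme).Modules :=
          ShortComplex.mk (kernel.ι φ) φ (kernel.condition φ)
        let α : S' ⟶ S'' := { τ₁ := 𝟙 _, τ₂ := 𝟙 _, τ₃ := Abelian.image.ι φ,
                              comm₁₂ := by simp [S', S''], comm₂₃ := by simp [S', S''] }
        have : Epi α.τ₁ := inferInstanceAs (Epi (𝟙 _))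
        have : IsIso α.τ₂ := inferInstanceAs (IsIso (𝟙 _))
        have : Mono α.τ₃ := inferInstanceAs (Mono (Abelian.image.ι φ))
        exact (ShortComplex.exact_iff_of_epi_of_isIso_of_mono α).mpr
          (ShortComplex.exact_of_f_is_kernel _ (kernelIsKernel φ))
      mono_f := inferInstanceAs (Mono (kernel.ι φ))
      epi_g := inferInstanceAs (Epi (Abelian.factorThruImage φ)) }
  obtain ⟨e, he⟩ := @app_surjective_of_affine _ _ hS' (inferInstanceAs (Coh.IsQCoh (kernel φ))) ⊤
    (isAffineOpen_top _) b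
  obtain ⟨c, hc⟩ := hφ ⊤ e
  have hfin : a' = ∑ i, c i • M.presheaf.map (homOfLE (le_top : ⊤ ≤ ⊤)).op (s' i) := by
    rw [← hc, ← hb]
    refine (congr_arg _ he.symm).trans ?_
    exact congr_arg (fun θ : E ⟶ M => θ.app ⊤ e) (Abelian.image.fac φ)
  refine ⟨fun i => X.presheaf.map (homOfLE (show D ≤ D.ι ''ᵁ ⊤ by simp)).op
    ((D.ι.appIso ⊤).inv (c i)), ?_⟩
  have h4 := congr_arg (F.presheaf.map (homOfLE (show D ≤ D.ι ''ᵁ ⊤ by simp)).op) hfin
  rw [map_map'] at h4
  refine (Eq.trans ?_ (h4.trans (map_sum (ConcreteCategory.hom (F.presheaf.map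
    (homOfLE (show D ≤ D.ι ''ᵁ ⊤ by simp)).op)) _ _))).trans (Finset.sum_congr rfl fun i _ => ?_)
  · exact ((ConcreteCategory.congr_hom (F.presheaf.map_id (op D)) a)).symm
  · refine (map_smul' F _ _ _).trans ?_
    refine congr_arg _ ?_
    exact (map_map' F (homOfLE _) (homOfLE (D.ι.image_mono le_top)) _).trans (map_map' F _ _ _)

end LocSub
end QCohLib
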