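import Groth.Agent.QCohLib.Modules
import Mathlib.AlgebraicGeometry.AffineScheme

universe u
open CategoryTheory CategoryTheory.Limits TopologicalSpace Opposite AlgebraicGeometry

namespace QCohLib
variable {X : Scheme.{u}}

/-- The inverse of `overEquiv` sends the unit to the unit. -/
noncomputable def overUnitIso (V : X.Opens) :
    SheafOfModules.unit (X.ringCatSheaf.over V) ≅
      (Scheme.Modules.overEquiv V).inverse.obj (SheafOfModules.unit (↑V : Scheme).ringCatSheaf) :=
  (Scheme.Modules.overEquiv V).unitIso.app _ ≪≫
    (Scheme.Modules.overEquiv V).inverse.mapIso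
      ((Scheme.Modules.overFunctorEquiv V).app (SheafOfModules.unit X.ringCatSheaf) ≪≫
        Scheme.Modules.restrictUnitIso V.ι)

set_option backward.isDefEq.respectTransparency.types false in
/-- A presentation of `M` restricted to `V` gives one of `M.over V`. -/
noncomputable def overPresentation (M : X.Modules) (V : X.Opens)
    (P : (M.restrict V.ι).Presentation) :
    (SheafOfModules.over (R := X.ringCatSheaf) M V).Presentation :=
  (P.map (Scheme.Modules.overEquiv V).inverse (overUnitIso V)).ofIsIso
    ((Scheme.Modules.overEquiv V).inverse.mapIso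
      ((Scheme.Modules.overFunctorEquiv V).app M).symm ≪≫
      ((Scheme.Modules.overEquiv V).unitIso.app _).symm).hom

/-- A module with local presentations is quasi-coherent. -/
theorem isQCoh_of_presentations (M : X.Modules) {ι : Type u} (V : ι → X.Opens) (hV : ⨆ i, V i = ⊤)
    (P : ∀ i, (M.restrict (V i).ι).Presentation) : Coh.IsQCoh M :=
  SheafOfModules.QuasicoherentData.isQuasicoherent.{u}
    (q := ({ I := ι
             X := V
             coversTop := (Opens.coversTop_iff (X : Type u) V).mpr hV
             presentation := fun i => overPresentation M (V i) (P i) } :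
      SheafOfModules.QuasicoherentData.{u} (R := X.ringCatSheaf) M))

set_option backward.isDefEq.respectTransparency.types false in
/-- Presentations move along equal open immersions. -/
noncomputable def presentationOfComp {Z Y : Scheme.{u}} (M : X.Modules) (g : Z ⟶ Y) (f : Y ⟶ X)
    [IsOpenImmersion g] [IsOpenImmersion f] (h : Z ⟶ X) [IsOpenImmersion h] (he : g ≫ f = h)
    (P : ((M.restrict f).restrict g).Presentation) : (M.restrict h).Presentation :=
  SheafOfModules.Presentation.ofIsIso.{u, u, u}
    (((Scheme.Modules.restrictFunctorComp g f).app M).symm ≪≫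
      (Scheme.Modules.restrictFunctorCongr he).app M).hom P

/-- Presentations on an open of an open subscheme. -/
noncomputable def presentationImage (M : X.Modules) (U : X.Opens) (V : (↑U : Scheme).Opens)
    (P : ((M.restrict U.ι).restrict V.ι).Presentation) :
    (M.restrict (U.ι ''ᵁ V).ι).Presentation :=
  presentationOfComp M ((U.ι.isoImage V).inv ≫ V.ι) U.ι _ (by simp)
    (presentationOfComp (M.restrict U.ι) (U.ι.isoImage V).inv V.ι _ rfl
      (Scheme.Modules.presentationRestrict (U.ι.isoImage V).inv P))

/-- Quasi-coherence is local. -/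
theorem isQCoh_of_cover (M : X.Modules) {ι : Type u} (U : ι → X.Opens) (hU : ⨆ i, U i = ⊤)
    (h : ∀ i, Coh.IsQCoh (M.restrict (U i).ι)) : Coh.IsQCoh M := by
  have hex := fun i => @Scheme.Modules.exists_isOpenCover_presentation _ (M.restrict (U i).ι) (h i)
  choose κ V P hV hV' using hex
  have hW : ⨆ j : Σ i, κ i, (U j.1).ι ''ᵁ (V j.1 j.2) = ⊤ := by
    rw [eq_top_iff]
    intro x _
    obtain ⟨i, hi⟩ := Opens.mem_iSup.mp (hU.ge (Opens.mem_top x))
    have hc : (⟨x, hi⟩ : (↑(U i) : Scheme)) ∈ ⨆ j, V i j := by rw [hV i]; trivial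
    obtain ⟨j, hj⟩ := Opens.mem_iSup.mp hc
    exact Opens.mem_iSup.mpr ⟨⟨i, j⟩, ⟨⟨x, hi⟩, hj, rfl⟩⟩
  exact isQCoh_of_presentations M (fun j : Σ i, κ i => (U j.1).ι ''ᵁ (V j.1 j.2)) hW
    fun j => presentationImage M (U j.1) (V j.1 j.2) (P j.1 j.2)

end QCohLib
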