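import Groth.Agent.QCohLib.Modules
import Groth.Agent.QCohLib.AbPush
import Mathlib.AlgebraicGeometry.OpenImmersion

/-!
# Cohomology on an open subscheme
-/

universe u
open CategoryTheory CategoryTheory.Limits TopologicalSpace Opposite AlgebraicGeometry

namespace QCohLib
variable {X W : Scheme.{u}} (j : W ⟶ X) [IsOpenImmersion j]

instance isContinuous_opensFunctor : j.opensFunctor.IsContinuous
    (Opens.grothendieckTopology W.toTopCat) (Opens.grothendieckTopology X.toTopCat) :=
  Topology.IsOpenEmbedding.functor_isContinuous j.isOpenEmbedding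

/-- Restriction of abelian sheaves along an open immersion. -/
noncomputable abbrev restrAb : AbSh X.toTopCat ⥤ AbSh W.toTopCat :=
  j.opensFunctor.sheafPushforwardContinuous AddCommGrpCat.{u}
    (Opens.grothendieckTopology W.toTopCat) (Opens.grothendieckTopology X.toTopCat)

theorem restrAb_app {F G : AbSh X.toTopCat} (g : F ⟶ G) (V : W.Opens) :
    ((restrAb j).map g).hom.app (op V) = g.hom.app (op (j ''ᵁ V)) := rfl

theorem isFlasque_restrAb (F : AbSh X.toTopCat)
    [TopCat.Sheaf.IsFlasque (F : TopCat.Sheaf AddCommGrpCat X.toTopCat)] :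
    TopCat.Sheaf.IsFlasque ((restrAb j).obj F : TopCat.Sheaf AddCommGrpCat W.toTopCat) :=
  ⟨fun i => TopCat.Presheaf.IsFlasque.epi (X := X.toTopCat) (F := F.obj)
    (j.opensFunctor.map i.unop).op⟩

theorem restrAb_shortExact {S : ShortComplex (AbSh X.toTopCat)} (hS : S.ShortExact) :
    (S.map (restrAb j)).ShortExact := by
  have := hS.mono_f
  have hinj : ∀ V, Function.Injective (S.f.hom.app (op V)) := fun V =>
    (AddCommGrpCat.mono_iff_injective _).mp
      (inferInstanceAs (Mono (((sheafToPresheaf _ _).map S.f).app (op V))))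
  have hmono : Mono (S.map (restrAb j)).f := by
    have : ∀ V, Mono (((restrAb j).map S.f).hom.app V) := fun V =>
      (AddCommGrpCat.mono_iff_injective _).mpr (hinj (j ''ᵁ V.unop))
    have : Mono ((sheafToPresheaf _ _).map ((restrAb j).map S.f)) :=
      NatTrans.mono_of_mono_app ((restrAb j).map S.f).hom
    exact (sheafToPresheaf _ _).mono_of_mono_map this
  refine { exact := ?_, mono_f := hmono, epi_g := ?_ }
  · apply ShortComplex.exact_of_f_is_kernel
    refine KernelFork.IsLimit.ofι' _ _ fun {A} φ hφ => ?_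
    have : ∀ (V : (Opens W)ᵒᵖ) (a : A.obj.obj V), ∃! y : S.X₁.obj.obj (op (j ''ᵁ V.unop)),
        S.f.hom.app _ y = φ.hom.app V a := fun V a => by
      have h0 : S.g.hom.app (op (j ''ᵁ V.unop)) (φ.hom.app V a) = 0 :=
        congr_arg (fun θ => θ.hom.app V a) hφ
      have : Mono ((S.map (sheafToPresheaf _ _)).map
          ((evaluation (Opens X)ᵒᵖ AddCommGrpCat).obj (op (j ''ᵁ V.unop)))).f :=
        (AddCommGrpCat.mono_iff_injective _).mpr (hinj _)
      have he := ((hS.exact.map_of_mono_of_preservesKernel (sheafToPresheaf _ _) hS.mono_f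
        inferInstance).map_of_mono_of_preservesKernel
          ((evaluation (Opens X)ᵒᵖ AddCommGrpCat).obj (op (j ''ᵁ V.unop)))
          ((sheafToPresheaf _ _).map_mono S.f) inferInstance)
      obtain ⟨y, hy⟩ := (ShortComplex.ab_exact_iff _).mp he (φ.hom.app V a) h0
      exact ⟨y, hy, fun z hz => hinj _ (hz.trans hy.symm)⟩
    choose y hy huniq using this
    have hadd : ∀ V (a b : A.obj.obj V), y V (a + b) = y V a + y V b := fun V a b =>
      (huniq V _ _ (((map_add _ _ _).trans (congr_arg₂ (· + ·) (hy V a) (hy V b))).trans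
        (map_add _ _ _).symm)).symm
    refine ⟨⟨{ app := fun V => AddCommGrpCat.ofHom (AddMonoidHom.mk' (y V) (hadd V))
               naturality := fun U V i => ?_ }⟩, ?_⟩
    · refine ConcreteCategory.hom_ext _ _ fun a => ?_
      refine (huniq V _ _ ?_).symm
      refine (ConcreteCategory.congr_hom (S.f.hom.naturality (j.opensFunctor.map i.unop).op)
        (y U a)).trans ?_
      refine (congr_arg _ (hy U a)).trans ?_
      exact (ConcreteCategory.congr_hom (φ.hom.naturality i) a).symm
    · apply Sheaf.hom_ext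
      ext V a
      exact hy V a
  · refine (Sheaf.isLocallySurjective_iff_epi' (φ := (restrAb j).map S.g)).mp
      ((TopCat.Presheaf.isLocallySurjective_iff _).mpr fun V s p hp => ?_)
    have hls := (Sheaf.isLocallySurjective_iff_epi' (φ := S.g)).mpr hS.epi_g
    obtain ⟨V', hV', ⟨t, ht⟩, hpV'⟩ :=
      (TopCat.Presheaf.isLocallySurjective_iff S.g.hom).mp hls (j ''ᵁ V) s (j p) ⟨p, hp, rfl⟩
    have hle : j ''ᵁ (j ⁻¹ᵁ V') ≤ V' := j.image_preimage_le V'
    have hle' : j ⁻¹ᵁ V' ≤ V :=
      (j.preimage_mono hV').trans (j.preimage_image_eq V).le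
    refine ⟨j ⁻¹ᵁ V', hle', ⟨S.X₂.obj.map (homOfLE hle).op t, ?_⟩, hpV'⟩
    refine (ConcreteCategory.congr_hom (S.g.hom.naturality (homOfLE hle).op) t).trans ?_
    refine (congr_arg (S.X₃.obj.map (homOfLE hle).op) ht).trans ?_
    change (S.X₃.obj.map (homOfLE hV').op ≫ S.X₃.obj.map (homOfLE hle).op) s = _
    rw [← Functor.map_comp]
    rfl

/-- Cohomology on an open subscheme is cohomology of the ambient scheme on its image. -/
theorem nonempty_restrEquiv (n : ℕ) (F : AbSh X.toTopCat) (V : W.Opens) :
    Nonempty (HU ((restrAb j).obj F) n V ≃+ HU F n (j ''ᵁ V)) := by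
  induction n using Nat.strong_induction_on generalizing F with
  | _ n ih =>
    let S := injSeq F
    have hS : S.ShortExact := injSeq_shortExact F
    have hT : (S.map (restrAb j)).ShortExact := restrAb_shortExact j hS
    have hfl : ∀ k, Subsingleton (HU (S.map (restrAb j)).X₂ (k + 1) V) := fun k =>
      @subsingleton_of_isFlasque _ k _ (@isFlasque_restrAb _ _ j _ S.X₂ (isFlasque_of_injective S.X₂)) V
    match n, ih with
    | 0, _ => exact ⟨(h0 (F := (restrAb j).obj F) (U := V)).trans (h0 (F := F) (U := j ''ᵁ V)).symm⟩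
    | 1, _ =>
      have hk : (delta0 hT V).ker = (delta0 hS (j ''ᵁ V)).ker := by
        ext q
        exact (delta0_eq_zero_iff hT V q).trans (delta0_eq_zero_iff hS (j ''ᵁ V) q).symm
      have := hfl 0
      exact nonempty_addEquiv_of_ker_eq _ _ (delta0_surjective hT V)
        (delta0_surjective hS (j ''ᵁ V)) hk
    | m + 2, ih =>
      have := hfl m
      have := hfl (m + 1)
      obtain ⟨e⟩ := ih (m + 1) (by omega) S.X₃
      exact ⟨(deltaEquiv hT m V).symm.trans (e.trans (deltaEquiv hS m (j ''ᵁ V)))⟩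

/-- Cohomology of a restricted module. -/
theorem nonempty_HU_restrict (M : X.Modules) (n : ℕ) (V : W.Opens) :
    Nonempty (HU ((toAbF W).obj (M.restrict j)) n V ≃+ HU ((toAbF X).obj M) n (j ''ᵁ V)) :=
  nonempty_restrEquiv j n ((toAbF X).obj M) V

end QCohLib
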