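import Groth.Agent.QCohLib.Bound
import Groth.Agent.QCohLib.Push
import Mathlib.AlgebraicGeometry.Morphisms.QuasiSeparated

/-!
# Uniform bounds on the cohomological amplitude of quasi-compact quasi-separated morphisms
-/

universe u
open CategoryTheory CategoryTheory.Limits TopologicalSpace Opposite AlgebraicGeometry

namespace QCohLib
variable {X : Scheme.{u}} (U₀ : X.Opens)

/-- The cohomology on `W ⊓ D(a)` is bounded, uniformly in `a`. -/
def UBounded (W : X.Opens) : Prop :=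
  ∃ d : ℕ, ∀ (a : Γ(X, U₀)) (M : X.Modules), Coh.IsQCoh M → ∀ n, d ≤ n →
    Subsingleton (HU ((toAbF X).obj M) n (W ⊓ X.basicOpen a))

theorem inf_basicOpen_isAffine {V : X.Opens} (hV : IsAffineOpen V) (hle : V ≤ U₀)
    (a : Γ(X, U₀)) : IsAffineOpen (V ⊓ X.basicOpen a) := by
  have := hV.basicOpen (X.presheaf.map (homOfLE hle).op a)
  rwa [Scheme.basicOpen_res] at this

theorem uBounded_of_le_affine {W V : X.Opens} (hV : IsAffineOpen V) (hle : V ≤ U₀) (hWV : W ≤ V)
    (hW : IsCompact (W : Set X)) : UBounded U₀ W := by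
  classical
  choose f hf hpf using fun p : (W : Set X) => hV.exists_basicOpen_le ⟨p.1, p.2⟩ (hWV p.2)
  obtain ⟨t, ht⟩ := hW.elim_finite_subcover (fun p => (X.basicOpen (f p) : Set X))
    (fun p => (X.basicOpen (f p)).isOpen) fun p hp => Set.mem_iUnion.mpr ⟨⟨p, hp⟩, hpf ⟨p, hp⟩⟩
  have e : t.sup (fun p => X.basicOpen (f p)) = W := by
    refine le_antisymm (Finset.sup_le fun p _ => hf p) fun p hp => ?_
    obtain ⟨i, hi, hp'⟩ := Set.mem_iUnion₂.mp (ht hp)
    exact Finset.le_sup (f := fun p => X.basicOpen (f p)) hi hp'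
  refine ⟨t.card, fun a M hM n hn => ?_⟩
  have e' : t.sup (fun p => X.basicOpen (f p) ⊓ X.basicOpen a) = W ⊓ X.basicOpen a := by
    exact (Finset.sup_inf_distrib_right t _ _).symm.trans (congrArg (fun Z : X.Opens => Z ⊓ X.basicOpen a) e)
  refine e' ▸ @subsingleton_HU_finsetSup X M hM _ t _ (fun s hs _ => ?_) n hn
  have h : ∀ s : Finset (W : Set X), s.Nonempty →
      ∃ g : Γ(X, V), s.inf (fun p => X.basicOpen (f p)) = X.basicOpen g := by
    intro s hs
    induction hs using Finset.Nonempty.cons_induction with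
    | singleton a => exact ⟨f a, by simp⟩
    | cons a s ha _ ih =>
      obtain ⟨g, hg⟩ := ih
      exact ⟨f a * g, by rw [Finset.inf_cons, hg, X.basicOpen_mul]⟩
  obtain ⟨g, hg⟩ := h s hs
  rw [show (fun p => X.basicOpen (f p) ⊓ X.basicOpen a) =
      (fun p => X.basicOpen (f p)) ⊓ (fun _ => X.basicOpen a) from rfl, Finset.inf_inf,
    Finset.inf_const hs, hg]
  exact inf_basicOpen_isAffine U₀ (hV.basicOpen g) ((X.basicOpen_le g).trans hle) a

theorem uBounded_of_isCompact (hqs : IsQuasiSeparated (U₀ : Set X)) (W : X.Opens)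
    (hW : IsCompact (W : Set X)) : W ≤ U₀ → UBounded U₀ W := by
  refine compact_open_induction_on (P := fun S => S ≤ U₀ → UBounded U₀ S) W hW
    (fun _ => ⟨0, fun a M _ n _ => by rw [bot_inf_eq]; infer_instance⟩) ?_
  rintro S hS ⟨V, hV⟩ ih (hle : S ⊔ V ≤ U₀)
  obtain ⟨d, hd⟩ := ih (le_sup_left.trans hle)
  obtain ⟨e, he⟩ := uBounded_of_le_affine U₀ (W := S ⊓ V) hV (le_sup_right.trans hle) inf_le_right
    (hqs _ _ (le_sup_left.trans hle) S.isOpen hS (le_sup_right.trans hle) V.isOpen hV.isCompact)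
  refine ⟨max d e + 1, fun a M hM n hn => ?_⟩
  obtain ⟨m, rfl⟩ : ∃ m, n = m + 1 := ⟨n - 1, by omega⟩
  have h1 := hd a M hM (m + 1) (by omega)
  have h2 := @subsingleton_HU_affine X M hM m _
    (inf_basicOpen_isAffine U₀ hV (le_sup_right.trans hle) a)
  have h3 : Subsingleton (HU ((toAbF X).obj M) m ((S ⊓ X.basicOpen a) ⊓ (V ⊓ X.basicOpen a))) := by
    rw [show (S ⊓ X.basicOpen a) ⊓ (V ⊓ X.basicOpen a) = S ⊓ V ⊓ X.basicOpen a by
      rw [inf_inf_inf_comm, inf_idem]]
    exact he a M hM m (by omega)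
  change Subsingleton (HU _ (m + 1) ((S ⊔ V) ⊓ X.basicOpen a))
  rw [inf_sup_right]
  exact @subsingleton_sup' _ ((toAbF X).obj M) m _ _ h1 h2 h3

end QCohLib
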