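import Groth.Agent.QCohLib.QCoh
import Groth.Agent.QCohLib.Push

/-!
# Acyclic quasi-coherent envelopes on schemes with affine diagonal
-/

universe u
open CategoryTheory CategoryTheory.Limits TopologicalSpace Opposite AlgebraicGeometry

namespace QCohLib
variable {X : Scheme.{u}}

theorem isAffineHom_ι (U : X.Opens) (hU : IsAffineOpen U)
    (hd : ∀ V W : X.Opens, IsAffineOpen V → IsAffineOpen W → IsAffineOpen (V ⊓ W)) :
    IsAffineHom U.ι := by
  rw [isAffineHom_iff]
  intro W hW
  rw [← U.ι.isAffineOpen_iff_of_isOpenImmersion]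
  rw [U.ι.image_preimage_eq_opensRange_inf, Scheme.Opens.opensRange_ι]
  exact hd U W hU hW

theorem exists_acyclic_envelope [CompactSpace X]
    (hd : ∀ V W : X.Opens, IsAffineOpen V → IsAffineOpen W → IsAffineOpen (V ⊓ W))
    (M : X.Modules) [Coh.IsQCoh M] :
    ∃ (M' : X.Modules) (i : M ⟶ M'), Mono i ∧ Coh.IsQCoh M' ∧
      ∀ p : ℕ, 0 < p → Subsingleton (Coh.HH X M' p) := by
  classical
  have key : ∀ t : Finset X.affineOpens, ∃ (M' : X.Modules) (φ : M ⟶ M'), Coh.IsQCoh M' ∧
      (∀ p : ℕ, Subsingleton (HU ((toAbF X).obj M') (p + 1) ⊤)) ∧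
      ∀ U ∈ t, ∀ (V : X.Opens) (x : Γ(M, V)), φ.app V x = 0 →
        M.presheaf.map (homOfLE (inf_le_right : U.1 ⊓ V ≤ V)).op x = 0 := by
    intro t
    induction t using Finset.induction_on with
    | empty =>
      refine ⟨cokernel (𝟙 M), cokernel.π _, isQCoh_cokernel _, fun p => ?_,
        fun U hU => absurd hU (Finset.notMem_empty U)⟩
      have hz : IsZero (cokernel (𝟙 M)) := by
        rw [IsZero.iff_id_eq_zero, ← cancel_epi (cokernel.π (𝟙 M))]
        rw [comp_zero, Category.comp_id]
        exact (Category.id_comp _).symm.trans (cokernel.condition (𝟙 M))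
      refine subsingleton_of_forall_eq 0 fun y => ?_
      rw [← Abelian.Ext.comp_mk₀_id y,
        (IsZero.iff_id_eq_zero _).mp ((toAbF X).map_isZero hz), Abelian.Ext.mk₀_zero,
        Abelian.Ext.comp_zero]
    | insert U t hU ih =>
      obtain ⟨N, φ, hN, hac, hker⟩ := ih
      have := isAffineHom_ι U.1 U.2 hd
      let L := (Scheme.Modules.pushforward U.1.ι).obj (M.restrict U.1.ι)
      have hL : Coh.IsQCoh L := isQCoh_pushforward _ _
      let ψ : M ⟶ L := (Scheme.Modules.restrictAdjunction U.1.ι).unit.app M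
      have hLac : ∀ p : ℕ, Subsingleton (HU ((toAbF X).obj L) (p + 1) ⊤) := fun p => by
        obtain ⟨e⟩ := nonempty_HU_push U.1.ι (M.restrict U.1.ι) (p + 1) ⊤
        have : IsAffine (U.1 : Scheme) := U.2
        have := subsingleton_HU_affine (M.restrict U.1.ι) p
          (U := U.1.ι ⁻¹ᵁ ⊤) (isAffineOpen_top _)
        exact e.toEquiv.subsingleton
      let S : ShortComplex X.Modules := ShortComplex.mk biprod.inl (biprod.snd : N ⊞ L ⟶ L)
        biprod.inl_snd
      have hS : S.ShortExact :=
        (ShortComplex.Splitting.ofHasBinaryBiproduct N L).shortExact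
      refine ⟨N ⊞ L, biprod.lift φ ψ, isQCoh_biprod N L, fun p => ?_, fun W hW V x hx => ?_⟩
      · have h1 := hac p
        have h2 := hLac p
        refine subsingleton_of_forall_eq 0 fun y => ?_
        obtain ⟨z, rfl⟩ := Abelian.Ext.covariant_sequence_exact₂ (zsh (⊤ : Opens X.toTopCat))
          (S := S.map (toAbF X)) (toAbF_shortExact hS) y
          (@Subsingleton.elim (HU ((toAbF X).obj L) (p + 1) ⊤) h2 _ _)
        rw [@Subsingleton.elim (HU ((toAbF X).obj N) (p + 1) ⊤) h1 z 0]
        exact Abelian.Ext.zero_comp (C := AbSh X.toTopCat) _ _ _ _ _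
      · have hφ : φ.app V x = 0 := by
          have := congr_arg ((biprod.fst : N ⊞ L ⟶ N).app V) hx
          rw [map_zero] at this
          refine Eq.trans ?_ this
          exact (congr_arg (fun θ : M ⟶ N => θ.app V x) (biprod.lift_fst φ ψ)).symm
        rcases Finset.mem_insert.mp hW with heq | hW
        · subst W
          have hψ : ψ.app V x = 0 := by
            have := congr_arg ((biprod.snd : N ⊞ L ⟶ L).app V) hx
            rw [map_zero] at this
            refine Eq.trans ?_ this
            exact (congr_arg (fun θ : M ⟶ L => θ.app V x) (biprod.lift_snd φ ψ)).symm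
          have e : U.1.ι ''ᵁ U.1.ι ⁻¹ᵁ V = U.1 ⊓ V := by
            rw [U.1.ι.image_preimage_eq_opensRange_inf, Scheme.Opens.opensRange_ι]
          have h' := congr_arg (M.presheaf.map (eqToHom e.symm).op) hψ
          refine Eq.trans ?_ (h'.trans (map_zero (M.presheaf.map (eqToHom e.symm).op).hom))
          exact (map_map' M _ _ x).symm
        · exact hker W hW V x hφ
  obtain ⟨t, ht⟩ : ∃ t : Finset X.affineOpens, (Set.univ : Set X) ⊆ ⋃ V ∈ t, (V.1 : Set X) :=
    isCompact_univ.elim_finite_subcover (fun V : X.affineOpens => (V.1 : Set X))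
      (fun V => V.1.isOpen) (fun p _ => by
        obtain ⟨V, hV, hp, -⟩ := Opens.isBasis_iff_nbhd.mp X.isBasis_affineOpens
          (U := ⊤) (x := p) trivial
        exact Set.mem_iUnion.mpr ⟨⟨V, hV⟩, hp⟩)
  obtain ⟨M', φ, hM', hac, hker⟩ := key t
  refine ⟨M', φ, ?_, hM', fun p hp => ?_⟩
  · have : ∀ V, Mono (((Scheme.Modules.toPresheaf X).map φ).app V) := fun V => by
      rw [AddCommGrpCat.mono_iff_injective, injective_iff_map_eq_zero]
      intro x hx
      refine TopCat.Sheaf.eq_of_locally_eq' ((toAbF X).obj M : TopCat.Sheaf AddCommGrpCat _)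
        (fun U : t => (U.1.1 ⊓ V.unop : X.Opens)) V.unop (fun U => homOfLE inf_le_right)
        (fun p hp => ?_) x 0 (fun U => ?_)
      · obtain ⟨U, hU, hpU⟩ := Set.mem_iUnion₂.mp (ht (Set.mem_univ p))
        exact Opens.mem_iSup.mpr ⟨⟨U, hU⟩, hpU, hp⟩
      · exact (hker U.1 U.2 V.unop x hx).trans (map_zero _).symm
    have := NatTrans.mono_of_mono_app ((Scheme.Modules.toPresheaf X).map φ)
    exact (Scheme.Modules.toPresheaf X).mono_of_mono_map this
  · obtain ⟨q, rfl⟩ : ∃ q, p = q + 1 := ⟨p - 1, by omega⟩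
    exact (subsingleton_H_iff _ _).mpr (hac q)

end QCohLib
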