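import Groth.Agent.QCohLib.Gen
import Groth.Prelude.Def_CohB1

/-!
# Modules of finite type on schemes
-/

universe u
open CategoryTheory CategoryTheory.Limits TopologicalSpace Opposite AlgebraicGeometry

namespace QCohLib
variable {X : Scheme.{u}}

/-- Every section below `U` is locally a combination of the `s i`. -/
def GenOn (M : X.Modules) (U : X.Opens) {I : Type u} [Fintype I] (s : I → Γ(M, U)) : Prop :=
  ∀ (V : X.Opens), V ≤ U → ∀ (t : Γ(M, V)) (p : X), p ∈ V →
    ∃ (W : X.Opens) (hW : W ≤ V) (hWU : W ≤ U), p ∈ W ∧ ∃ c : I → Γ(X, W),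
      M.presheaf.map (homOfLE hW).op t = ∑ i, c i • M.presheaf.map (homOfLE hWU).op (s i)

theorem GenOn.mono {M : X.Modules} {U U' : X.Opens} (h : U' ≤ U) {I : Type u} [Fintype I]
    {s : I → Γ(M, U)} (hs : GenOn M U s) :
    GenOn M U' (fun i => M.presheaf.map (homOfLE h).op (s i)) := fun V hV t p hp => by
  obtain ⟨W, hW, hWU, hpW, c, hc⟩ := hs V (hV.trans h) t p hp
  refine ⟨W, hW, hW.trans hV, hpW, c, hc.trans (Finset.sum_congr rfl fun i _ => ?_)⟩
  rw [map_map']
  rfl

/-- Images of generators under an epimorphism. -/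
theorem GenOn.image {M N : X.Modules} (φ : M ⟶ N) [Epi φ] {U : X.Opens} {I : Type u} [Fintype I]
    {s : I → Γ(M, U)} (hs : GenOn M U s) : GenOn N U (fun i => φ.app U (s i)) :=
  fun V hV t p hp => by
  obtain ⟨W, hW, hpW, t', ht'⟩ := exists_of_app_epi φ V t p hp
  obtain ⟨W', hW', hWU, hpW', c, hc⟩ := hs W (hW.trans hV) t' p hpW
  refine ⟨W', hW'.trans hW, hWU, hpW', c, ?_⟩
  have h1 := congr_arg (φ.app W') hc
  rw [app_map, ht', map_map', map_sum] at h1
  refine Eq.trans ?_ (h1.trans (Finset.sum_congr rfl fun i _ => ?_))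
  · rfl
  · rw [app_smul, app_map]

theorem GenOn.reindex {M : X.Modules} {U : X.Opens} {I J : Type u} [Fintype I] [Fintype J]
    {s : I → Γ(M, U)} (hs : GenOn M U s) (e : J ≃ I) : GenOn M U (fun j => s (e j)) :=
  fun V hV t p hp => by
  obtain ⟨W, hW, hWU, hpW, c, hc⟩ := hs V hV t p hp
  exact ⟨W, hW, hWU, hpW, fun j => c (e j), hc.trans
    (Equiv.sum_comp e fun i => c i • M.presheaf.map (homOfLE hWU).op (s i)).symm⟩

theorem genTop_restrict {M : X.Modules} {U : X.Opens} {I : Type u} [Fintype I]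
    {s : I → Γ(M, U)} (hs : GenOn M U s) :
    GenTop (M := M.restrict U.ι)
      (fun i => M.presheaf.map (homOfLE (U.ι_image_le ⊤)).op (s i)) := by
  intro V t p hp
  obtain ⟨W, hW, hWU, hpW, c, hc⟩ :=
    hs (U.ι ''ᵁ V) (U.ι_image_le V) t (U.ι p) ⟨p, hp, rfl⟩
  have hle : U.ι ''ᵁ (U.ι ⁻¹ᵁ W) ≤ W := U.ι.image_preimage_le W
  have hW' : U.ι ⁻¹ᵁ W ≤ V := (U.ι.preimage_mono hW).trans (U.ι.preimage_image_eq V).le
  refine ⟨U.ι ⁻¹ᵁ W, hW', hpW,
    fun i => (U.ι.appIso _).hom (X.presheaf.map (homOfLE hle).op (c i)), ?_⟩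
  have h1 := congr_arg (M.presheaf.map (homOfLE hle).op) hc
  rw [map_map', map_sum] at h1
  refine Eq.trans ?_ (h1.trans (Finset.sum_congr rfl fun i _ => ?_))
  · rfl
  · rw [map_smul', map_map']
    refine Eq.trans ?_ (Scheme.Modules.smul_restrictAppIso_hom_apply U.ι M (U.ι ⁻¹ᵁ W) _ _).symm
    exact congr_arg₂ (· • ·)
      (Iso.hom_inv_id_apply (U.ι.appIso _) _).symm
      (map_map' M (homOfLE (U.ι.image_mono (le_top : U.ι ⁻¹ᵁ W ≤ ⊤))) (homOfLE (U.ι_image_le ⊤)) (s i)).symm

theorem genOn_of_restrict {M : X.Modules} {U : X.Opens} {I : Type u} [Fintype I]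
    {σ : I → Γ(M, U.ι ''ᵁ ⊤)} (hσ : GenTop (M := M.restrict U.ι) σ) :
    GenOn M U (fun i => M.presheaf.map
      (homOfLE (show U ≤ U.ι ''ᵁ ⊤ by simp)).op (σ i)) := by
  intro V hV t p hp
  have hle : U.ι ''ᵁ (U.ι ⁻¹ᵁ V) ≤ V := U.ι.image_preimage_le V
  obtain ⟨W, hW, hpW, c, hc⟩ := hσ (U.ι ⁻¹ᵁ V) (M.presheaf.map (homOfLE hle).op t)
    (⟨p, hV hp⟩ : U) hp
  refine ⟨U.ι ''ᵁ W, (U.ι.image_mono hW).trans hle, U.ι_image_le W, ⟨⟨p, hV hp⟩, hpW, rfl⟩,
    fun i => (U.ι.appIso W).inv (c i), ?_⟩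
  refine Eq.trans ?_ (hc.trans (Finset.sum_congr rfl fun i _ => ?_))
  · exact (map_map' M _ _ t).symm
  · change (U.ι.appIso W).inv (c i) • M.presheaf.map
      (homOfLE (U.ι.image_mono (le_top : W ≤ ⊤))).op (σ i) = _
    refine congr_arg _ ?_
    rw [map_map']
    rfl

set_option backward.isDefEq.respectTransparency.types false in
/-- Generators of `M.over U` give generators of the restriction. -/
noncomputable def genRestrict (M : X.Modules) (U : X.Opens)
    (G : (SheafOfModules.over (R := X.ringCatSheaf) M U).GeneratingSections) :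
    (M.restrict U.ι).GeneratingSections :=
  (G.map (Scheme.Modules.overEquiv U).functor
    (((Scheme.Modules.overFunctorEquiv U).app (SheafOfModules.unit X.ringCatSheaf) ≪≫
      Scheme.Modules.restrictUnitIso U.ι).symm)).ofEpi
    ((Scheme.Modules.overFunctorEquiv U).app M).hom

set_option backward.isDefEq.respectTransparency.types false in
/-- Generators of the restriction give generators of `M.over U`. -/
noncomputable def genOver (M : X.Modules) (U : X.Opens)
    (G : (M.restrict U.ι).GeneratingSections) :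
    (SheafOfModules.over (R := X.ringCatSheaf) M U).GeneratingSections :=
  (G.map (Scheme.Modules.overEquiv U).inverse (overUnitIso U)).ofEpi
    ((Scheme.Modules.overEquiv U).inverse.mapIso
      ((Scheme.Modules.overFunctorEquiv U).app M).symm ≪≫
      ((Scheme.Modules.overEquiv U).unitIso.app _).symm).hom

/-- Modules of finite type are locally finitely generated. -/
theorem exists_genOn_of_isFT {M : X.Modules} (h : CohB1.IsFT M) (p : X) :
    ∃ (U : X.Opens) (_ : p ∈ U) (n : ℕ) (s : ULift.{u} (Fin n) → Γ(M, U)), GenOn M U s := by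
  obtain ⟨σ, hσ⟩ := h.exists_localGeneratorsData
  obtain ⟨i, hi⟩ : ∃ i, p ∈ σ.X i :=
    Opens.mem_iSup.mp ((((Opens.coversTop_iff (X : Type u) σ.X).mp σ.coversTop)).ge (Opens.mem_top p))
  let U : X.Opens := σ.X i
  let G := genRestrict M U (σ.generators i)
  have : Finite G.I := (hσ.isFiniteType i).finite
  let : Fintype G.I := Fintype.ofFinite G.I
  have : Epi ((M.restrict U.ι).freeHomEquiv.symm G.s) := G.epi
  have hg := genOn_of_restrict (genTop_of_epi (M := M.restrict U.ι) G.s)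
  obtain ⟨n, ⟨e⟩⟩ := Finite.exists_equiv_fin G.I
  exact ⟨U, hi, n, _, hg.reindex (Equiv.ulift.trans e.symm)⟩

/-- Local generators from `GenOn`. -/
noncomputable def localData (M : X.Modules) {ι : Type u} (U : ι → X.Opens) (hU : ⨆ i, U i = ⊤)
    (I : ι → Type u) [∀ i, Fintype (I i)] (s : ∀ i, I i → Γ(M, U i))
    (h : ∀ i, GenOn M (U i) (s i)) :
    SheafOfModules.LocalGeneratorsData.{u} (R := X.ringCatSheaf) M where
  I := ι
  X := U
  coversTop := (Opens.coversTop_iff (X : Type u) U).mpr hU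
  generators i := genOver M (U i) (genTop_restrict (h i)).generatingSections

theorem isFiniteType_localData (M : X.Modules) {ι : Type u} (U : ι → X.Opens) (hU : ⨆ i, U i = ⊤)
    (I : ι → Type u) [∀ i, Fintype (I i)] (s : ∀ i, I i → Γ(M, U i))
    (h : ∀ i, GenOn M (U i) (s i)) : (localData M U hU I s h).IsFiniteType :=
  SheafOfModules.LocalGeneratorsData.IsFiniteType.mk (R := X.ringCatSheaf) (M := M)
    (p := localData M U hU I s h) fun i =>
    SheafOfModules.GeneratingSections.IsFiniteType.mk (σ := (localData M U hU I s h).generators i)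
      (inferInstance : Finite (I i))

/-- Locally finitely generated modules are of finite type. -/
theorem isFT_of_genOn (M : X.Modules) {ι : Type u} (U : ι → X.Opens) (hU : ⨆ i, U i = ⊤)
    (I : ι → Type u) [∀ i, Fintype (I i)] (s : ∀ i, I i → Γ(M, U i))
    (h : ∀ i, GenOn M (U i) (s i)) : CohB1.IsFT M :=
  SheafOfModules.IsFiniteType.mk (R := X.ringCatSheaf)
    ⟨localData M U hU I s h, isFiniteType_localData M U hU I s h⟩

theorem isFT_of_forall {M : X.Modules}
    (h : ∀ p : X, ∃ (U : X.Opens) (_ : p ∈ U) (n : ℕ) (s : ULift.{u} (Fin n) → Γ(M, U)), GenOn M U s) :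
    CohB1.IsFT M := by
  choose U hU n s hs using h
  exact isFT_of_genOn M U (eq_top_iff.mpr fun p _ => Opens.mem_iSup.mpr ⟨p, hU p⟩) _ s hs

end QCohLib
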